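import Cfsg.Agent.Lib.AutPOmega.Main

/-!
# Stars as commutants (any index, including totally singular solids)

* `star_iff_commute` : a star is the set of roots commuting with two opposite roots at its point and
  with all roots coplanar to both
* `pt_or_disjoint` : an automorphism maps a star to a star, or two opposite roots to disjoint orthogonal ones
* `pt_all` : preserving one star forces preserving all
-/

set_option autoImplicit false
set_option linter.unusedSectionVars false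

namespace Cfsg.Agent.Triality

open Cfsg Matrix Module Cfsg.Agent.Orth Cfsg.Agent.AutPOmega
open QuadraticMap (polar)

variable {ι : Type} [Fintype ι] [DecidableEq ι] {F : Type*} [Field F] [Fintype F]
variable {Q : QuadraticForm F (ι → F)}

/-- Two roots at `u` in opposite directions inside `perp u f`. -/
structure Frame (Q : QuadraticForm F (ι → F)) (u f a b : ι → F) : Prop where
  hp : HPair Q u f
  ha : a ∈ perp Q u f
  hb : b ∈ perp Q u f
  qa : Q a = 0
  qb : Q b = 0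
  ab : polar ⇑Q a b ≠ 0

theorem Frame.na {u f a b : ι → F} (h : Frame Q u f a b) : a ≠ 0 := fun h0 =>
  h.ab (by rw [h0, pl_comm, pl_zero_right])

theorem Frame.nb {u f a b : ι → F} (h : Frame Q u f a b) : b ≠ 0 := fun h0 =>
  h.ab (by rw [h0, pl_zero_right])

theorem Frame.sa {u f a b : ι → F} (h : Frame Q u f a b) : SPair Q u a := spair_perp h.hp h.ha h.na h.qa

theorem Frame.sb {u f a b : ι → F} (h : Frame Q u f a b) : SPair Q u b := spair_perp h.hp h.hb h.nb h.qb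

theorem Frame.ne {u f a b : ι → F} (h : Frame Q u f a b) : ln u a ≠ ln u b := fun e =>
  h.ab (h.sa.ts (right_mem_ln _ _) (e ▸ right_mem_ln _ _)).2

theorem Frame.not_perp {u f a b : ι → F} (h : Frame Q u f a b) : ¬ Perp Q (ln u a) (ln u b) :=
  fun hp => h.ab (hp _ (right_mem_ln _ _) _ (right_mem_ln _ _))

theorem star_iff_commute (H : Base Q) {u f a b : ι → F} (h : Frame Q u f a b) (z : POmega F ⇑Q) :
    z ∈ Star Q u ↔ IsRoot z ∧ Commute z (E Q u a) ∧ Commute z (E Q u b) ∧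
      ∀ v, Coplanar v (E Q u a) → Coplanar v (E Q u b) → Commute z v := by
  constructor
  · intro hz
    obtain ⟨a', b', hs, rfl⟩ := hz.1
    have hu : u ∈ ln a' b' := (star_iff H h.hp.qe h.hp.ne_zero hs).1 hz
    refine ⟨hz.1, (commute_iff H hs h.sa).2 (.inl ⟨u, h.sa.nu, hu, left_mem_ln _ _⟩),
      (commute_iff H hs h.sb).2 (.inl ⟨u, h.sa.nu, hu, left_mem_ln _ _⟩), fun v hv1 hv2 => ?_⟩
    obtain ⟨c, d, hv, rfl⟩ := hv1.1
    exact (commute_iff H hs hv).2 (.inl ⟨u, h.sa.nu, hu, mem_of_meet_both h.sa h.sb h.ab hv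
      ((coplanar_iff H hv h.sa).1 hv1).2.1 ((coplanar_iff H hv h.sb).1 hv2).2.1⟩)
  · rintro ⟨⟨a0, b0, hs, rfl⟩, hx, hy, hC⟩
    refine (star_iff H h.hp.qe h.hp.ne_zero hs).2 ?_
    by_contra hu
    -- the line is orthogonal to `u`, `a`, `b`
    have meet_perp : ∀ {c d : ι → F}, SPair Q u c → SPair Q u d → polar ⇑Q c d ≠ 0 →
        Meet (ln a0 b0) (ln u c) → Perp Q (ln a0 b0) (ln u d) → False := by
      intro c d hc hd hcd hm hp
      obtain ⟨p, hp0, hp1, hp2⟩ := hm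
      obtain ⟨s, t, rfl⟩ := mem_ln.1 hp2
      have h0 := hp _ hp1 d (right_mem_ln _ _)
      rw [pl_add_left, pl_smul_left, pl_smul_left, hd.p, mul_zero, zero_add, mul_eq_zero] at h0
      have ht : t = 0 := h0.resolve_right hcd
      subst ht
      rw [zero_smul, add_zero] at hp0 hp1
      have := Submodule.smul_mem _ s⁻¹ hp1
      rw [inv_smul_smul₀ fun hs0 : s = 0 => hp0 (by rw [hs0, zero_smul])] at this
      exact hu this
    have hcx := (commute_iff H hs h.sa).1 hx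
    have hcy := (commute_iff H hs h.sb).1 hy
    have hba : polar ⇑Q b a ≠ 0 := by rw [pl_comm]; exact h.ab
    have hPa : Perp Q (ln a0 b0) (ln u a) := by
      rcases hcx with hm | hp
      · rcases hcy with hm' | hp'
        · exact absurd (mem_of_meet_both h.sa h.sb h.ab hs hm hm') hu
        · exact (meet_perp h.sa h.sb h.ab hm hp').elim
      · exact hp
    have hPb : Perp Q (ln a0 b0) (ln u b) := by
      rcases hcy with hm | hp
      · exact (meet_perp h.sb h.sa hba hm hPa).elim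
      · exact hp
    have ha0u : polar ⇑Q u a0 = 0 := by rw [pl_comm]; exact hPa _ (left_mem_ln _ _) _ (left_mem_ln _ _)
    have ha0a : polar ⇑Q a a0 = 0 := by rw [pl_comm]; exact hPa _ (left_mem_ln _ _) _ (right_mem_ln _ _)
    have ha0b : polar ⇑Q b a0 = 0 := by rw [pl_comm]; exact hPb _ (left_mem_ln _ _) _ (right_mem_ln _ _)
    have hnot : a0 ∉ Submodule.span F {u} := fun hm => by
      obtain ⟨c, hc⟩ := Submodule.mem_span_singleton.1 hm
      have hc0 : c ≠ 0 := fun h0 => hs.nu (by rw [← hc, h0, zero_smul])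
      have h2 : c⁻¹ • a0 ∈ ln a0 b0 := Submodule.smul_mem _ _ (left_mem_ln _ _)
      rw [show c⁻¹ • a0 = u by rw [← hc, inv_smul_smul₀ hc0]] at h2
      exact hu h2
    -- a singular direction at `u`, orthogonal to `a`, `b`, not orthogonal to `a0`
    obtain ⟨hnd, hd⟩ := finrank_perp_eq H.nd h.hp
    set k := (polar ⇑Q a b)⁻¹
    have hpab : HPair Q a (k • b) :=
      ⟨h.qa, by rw [Q_smul, h.qb, mul_zero], by rw [pl_smul_right, inv_mul_cancel₀ h.ab]⟩
    obtain ⟨hndW, hdW⟩ := ndOn_cut hnd hpab h.ha (Submodule.smul_mem _ _ h.hb)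
    set W := perp Q u f ⊓ perp Q a (k • b)
    obtain ⟨e3, he3, f3, hf3, h3⟩ := exists_hpair_of_three hndW (by have := H.seven; omega)
    obtain ⟨s, hsW, hQs, hsne⟩ : ∃ s ∈ W, Q s = 0 ∧ polar ⇑Q a0 s ≠ 0 := by
      by_contra! hall
      have hall' : ∀ x ∈ W, polar ⇑Q a0 x = 0 :=
        singular_induction h3 he3 hf3 (P := fun x => polar ⇑Q a0 x = 0)
          (fun x _ y _ hx hy => by rw [pl_add_right, hx, hy, add_zero]) hall
      refine hnot ?_
      set w := wPart Q u f a0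
      have e : a0 = polar ⇑Q f a0 • u + w := by
        conv_lhs => rw [decomp (Q := Q) u f a0, ha0u, zero_smul, add_zero]
      have hwa : polar ⇑Q a w = 0 := by
        have h4 := ha0a
        rw [e, pl_add_right, pl_smul_right, pl_comm Q a u, (mem_perp.1 h.ha).1, mul_zero, zero_add] at h4
        exact h4
      have hwb : polar ⇑Q b w = 0 := by
        have h4 := ha0b
        rw [e, pl_add_right, pl_smul_right, pl_comm Q b u, (mem_perp.1 h.hb).1, mul_zero, zero_add] at h4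
        exact h4
      have hw : w ∈ W := ⟨h.hp.wPart_mem a0, mem_perp.2 ⟨hwa, by rw [pl_smul_left, hwb, mul_zero]⟩⟩
      by_cases hw0 : w = 0
      · exact Submodule.mem_span_singleton.2 ⟨polar ⇑Q f a0, by rw [hw0, add_zero] at e; exact e.symm⟩
      exfalso
      obtain ⟨y, hy, hne⟩ := hndW w hw hw0
      have h4 := hall' y hy
      rw [e, pl_add_left, pl_smul_left, (mem_perp.1 hy.1).1, mul_zero, zero_add] at h4
      exact hne h4
    obtain ⟨hsu, hsf⟩ := mem_perp.1 hsW.1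
    obtain ⟨hsa, hsb⟩ := mem_perp.1 hsW.2
    rw [pl_smul_left, mul_eq_zero] at hsb
    have hsb' : polar ⇑Q b s = 0 := hsb.resolve_left (inv_ne_zero h.ab)
    have hs0 : s ≠ 0 := fun h0 => hsne (by rw [h0, pl_zero_right])
    have hv := spair_perp h.hp hsW.1 hs0 hQs
    have hcop : ∀ {c : ι → F}, SPair Q u c → polar ⇑Q c s = 0 → polar ⇑Q a c ≠ 0 ∨ polar ⇑Q b c ≠ 0 →
        Coplanar (E Q u s) (E Q u c) := by
      intro c hc hcs hne
      refine (coplanar_iff H hv hc).2 ⟨fun e => ?_, ⟨u, hv.nu, left_mem_ln _ _, left_mem_ln _ _⟩, ?_⟩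
      · have hm : c ∈ ln u s := e.symm ▸ right_mem_ln u c
        obtain ⟨p, q, rfl⟩ := mem_ln.1 hm
        rcases hne with hne | hne <;> refine hne ?_
        · rw [pl_add_right, pl_smul_right, pl_smul_right, hsa, pl_comm Q a u, h.sa.p]; ring
        · rw [pl_add_right, pl_smul_right, pl_smul_right, hsb', pl_comm Q b u, h.sb.p]; ring
      · exact perp_ln_iff.2 ⟨⟨by rw [pl_self, hc.qu, mul_zero], hc.p⟩, by rw [pl_comm]; exact hsu,
          by rw [pl_comm]; exact hcs⟩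
    have hc := hC _ (hcop h.sa hsa (.inr hba)) (hcop h.sb hsb' (.inl h.ab))
    rcases (commute_iff H hs hv).1 hc with ⟨p, hp0, hp1, hp2⟩ | hperp
    · obtain ⟨c, d, rfl⟩ := mem_ln.1 hp2
      have h4 := (hs.ts (left_mem_ln a0 b0) hp1).2
      rw [pl_add_right, pl_smul_right, pl_smul_right, pl_comm Q a0 u, ha0u, mul_zero, zero_add,
        mul_eq_zero] at h4
      have hd0 : d = 0 := h4.resolve_right hsne
      subst hd0
      rw [zero_smul, add_zero] at hp0 hp1
      have := Submodule.smul_mem _ c⁻¹ hp1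
      rw [inv_smul_smul₀ fun hc0 : c = 0 => hp0 (by rw [hc0, zero_smul])] at this
      exact hu this
    · exact hsne (hperp _ (left_mem_ln _ _) _ (right_mem_ln _ _))

theorem Frame.of_meet (H : Base Q) {u1 w1 u2 w2 : ι → F} (hs1 : SPair Q u1 w1) (hs2 : SPair Q u2 w2)
    (hm : Meet (ln u1 w1) (ln u2 w2)) (hnp : ¬ Perp Q (ln u1 w1) (ln u2 w2)) :
    ∃ u f a b, Frame Q u f a b ∧ E Q u a = E Q u1 w1 ∧ E Q u b = E Q u2 w2 := by
  obtain ⟨u, hu0, hu1, hu2⟩ := hm
  obtain ⟨a, ha, hla, ea⟩ := hs1.basis_at hu1 hu0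
  obtain ⟨b, hb, hlb, eb⟩ := hs2.basis_at hu2 hu0
  obtain ⟨f, hf⟩ := exists_hpair_left H.nd ha.qu hu0
  have key : ∀ {c : ι → F}, SPair Q u c → c = polar ⇑Q f c • u + wPart Q u f c := fun {c} hc => by
    conv_lhs => rw [decomp (Q := Q) u f c, hc.p, zero_smul, add_zero]
  have hq : ∀ {c : ι → F}, SPair Q u c → Q (wPart Q u f c) = 0 := fun {c} hc => by
    have h := congrArg Q (key hc)
    rw [hc.qw, Q_add, Q_smul, ha.qu, pl_smul_left, (mem_perp.1 (hf.wPart_mem c)).1] at h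
    linear_combination -h
  refine ⟨u, f, wPart Q u f a, wPart Q u f b,
    ⟨hf, hf.wPart_mem a, hf.wPart_mem b, hq ha, hq hb, fun h0 => hnp ?_⟩, ?_, ?_⟩
  · rw [← hla, ← hlb]
    refine perp_ln_iff.2 ⟨⟨by rw [pl_self, ha.qu, mul_zero], hb.p⟩, by rw [pl_comm]; exact ha.p, ?_⟩
    rw [key ha, key hb]
    simp only [pl_add_left, pl_add_right, pl_smul_left, pl_smul_right, pl_self, ha.qu,
      (mem_perp.1 (hf.wPart_mem b)).1, pl_comm Q (wPart Q u f a) u, (mem_perp.1 (hf.wPart_mem a)).1, h0]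
    ring
  · exact congrArg om ((E_wPart hf ha.p).trans ea.symm)
  · exact congrArg om ((E_wPart hf hb.p).trans eb.symm)

theorem pt_of_meet (H : Base Q) (α : MulAut (POmega F ⇑Q)) {u f a b : ι → F} (h : Frame Q u f a b)
    {u1 w1 u2 w2 : ι → F} (hs1 : SPair Q u1 w1) (hs2 : SPair Q u2 w2)
    (e1 : α (E Q u a) = E Q u1 w1) (e2 : α (E Q u b) = E Q u2 w2)
    (hm : Meet (ln u1 w1) (ln u2 w2)) : Pt Q α u := by
  have hne : ln u1 w1 ≠ ln u2 w2 := by
    rw [Ne, ← same_iff H hs1 hs2, ← e1, ← e2, sameL_map_iff H α, same_iff H h.sa h.sb]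
    exact h.ne
  have hnp : ¬ Perp Q (ln u1 w1) (ln u2 w2) := fun hp => h.not_perp (by
    have := (coplanar_iff H hs1 hs2).2 ⟨hne, hm, hp⟩
    rw [← e1, ← e2, coplanar_map_iff H α, coplanar_iff H h.sa h.sb] at this
    exact this.2.2)
  obtain ⟨u', f', a', b', h', ea, eb⟩ := Frame.of_meet H hs1 hs2 hm hnp
  refine ⟨u', h'.hp.qe, h'.hp.ne_zero, fun z => ?_⟩
  rw [star_iff_commute H h', star_iff_commute H h, ea, eb, ← e1, ← e2, isRoot_map_iff H α,
    commute_map_iff α.injective, commute_map_iff α.injective]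
  refine and_congr_right fun _ => and_congr_right fun _ => and_congr_right fun _ =>
    ⟨fun hv v h1 h2 => ?_, fun hv v h1 h2 => ?_⟩
  · have := hv (α v) ((coplanar_map_iff H α).2 h1) ((coplanar_map_iff H α).2 h2)
    rwa [commute_map_iff α.injective] at this
  · obtain ⟨v, rfl⟩ := α.surjective v
    rw [coplanar_map_iff H α] at h1 h2
    exact (commute_map_iff α.injective).2 (hv v h1 h2)

theorem pt_or_disjoint (H : Base Q) (α : MulAut (POmega F ⇑Q)) {u f a b : ι → F} (h : Frame Q u f a b) :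
    Pt Q α u ∨ ∃ u1 w1 u2 w2, SPair Q u1 w1 ∧ SPair Q u2 w2 ∧ α (E Q u a) = E Q u1 w1 ∧
      α (E Q u b) = E Q u2 w2 ∧ ¬ Meet (ln u1 w1) (ln u2 w2) ∧ Perp Q (ln u1 w1) (ln u2 w2) := by
  obtain ⟨u1, w1, hs1, e1⟩ := IsRoot.map H α (x := E Q u a) ⟨u, a, h.sa, rfl⟩
  obtain ⟨u2, w2, hs2, e2⟩ := IsRoot.map H α (x := E Q u b) ⟨u, b, h.sb, rfl⟩
  by_cases hm : Meet (ln u1 w1) (ln u2 w2)
  · exact .inl (pt_of_meet H α h hs1 hs2 e1 e2 hm)
  refine .inr ⟨u1, w1, u2, w2, hs1, hs2, e1, e2, hm, ?_⟩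
  refine ((commute_iff H hs1 hs2).1 ?_).resolve_left hm
  rw [← e1, ← e2]
  exact ((commute_iff H h.sa h.sb).2 (.inl ⟨u, h.sa.nu, left_mem_ln _ _, left_mem_ln _ _⟩)).map α

theorem pt_smul (H : Base Q) {α : MulAut (POmega F ⇑Q)} {u : ι → F} {c : F} (hc : c ≠ 0) (hu : Q u = 0)
    (hu0 : u ≠ 0) (h : Pt Q α u) : Pt Q α (c • u) := by
  obtain ⟨u', h1, h2, h3⟩ := h
  refine ⟨u', h1, h2, fun z => (h3 z).trans ⟨fun hz => ?_, fun hz => ?_⟩⟩ <;>
    obtain ⟨a, b, hs, rfl⟩ := hz.1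
  · exact (star_iff H (by rw [Q_smul, hu, mul_zero]) (smul_ne_zero hc hu0) hs).2
      (Submodule.smul_mem _ _ ((star_iff H hu hu0 hs).1 hz))
  · have := Submodule.smul_mem _ c⁻¹
      ((star_iff H (by rw [Q_smul, hu, mul_zero]) (smul_ne_zero hc hu0) hs).1 hz)
    rw [inv_smul_smul₀ hc] at this
    exact (star_iff H hu hu0 hs).2 this

theorem pt_perp (H : Base Q) {α : MulAut (POmega F ⇑Q)} {e u : ι → F} (hs : SPair Q e u)
    (hpt : Pt Q α e) : Pt Q α u := by
  obtain ⟨e', he', he'0, hst⟩ := hpt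
  obtain ⟨f, hef⟩ := exists_hpair_left H.nd hs.qu hs.nu
  set c := polar ⇑Q f u
  set u0 := wPart Q e f u
  have hu0 : u = c • e + u0 := by
    conv_lhs => rw [decomp (Q := Q) e f u, hs.p, zero_smul, add_zero]
  have hu0m : u0 ∈ perp Q e f := hef.wPart_mem u
  have hu00 : u0 ≠ 0 := fun h0 =>
    hs.ind (Submodule.mem_span_singleton.2 ⟨c, by rw [hu0, h0, add_zero]⟩)
  obtain ⟨hu0e, hu0f⟩ := mem_perp.1 hu0m
  have hQu0 : Q u0 = 0 := by
    have h := congrArg Q hu0
    rw [hs.qw, Q_add, Q_smul, hef.qe, pl_smul_left, hu0e] at h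
    linear_combination -h
  obtain ⟨w, hw, huw⟩ := exists_hpair_in (finrank_perp_eq H.nd hef).1 hu0m hQu0 hu00
  obtain ⟨hwe, hwf⟩ := mem_perp.1 hw
  have huw' : HPair Q u w := ⟨hs.qw, huw.qf, by rw [hu0, pl_add_left, pl_smul_left, hwe, huw.pf]; ring⟩
  set b := f + (-c) • w
  have hF : Frame Q u w e b := by
    refine ⟨huw', mem_perp.2 ⟨by rw [pl_comm]; exact hs.p, by rw [pl_comm]; exact hwe⟩,
      mem_perp.2 ⟨?_, ?_⟩, hs.qu, ?_, ?_⟩
    · simp only [b, pl_add_right, pl_smul_right, huw'.pf, pl_comm Q u f, show polar ⇑Q f u = c from rfl]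
      ring
    · simp only [b, pl_add_right, pl_smul_right, pl_self, huw.qf, pl_comm Q w f, hwf]
      ring
    · simp only [b, Q_add, Q_smul, hef.qf, huw.qf, pl_smul_right, hwf]
      ring
    · simp only [b, pl_add_right, pl_smul_right, hef.pf, hwe]
      simp
  rcases pt_or_disjoint H α hF with h | ⟨u1, w1, u2, w2, hs1, hs2, e1, e2, hm, hp⟩
  · exact h
  exfalso
  have hin : E Q u e ∈ Star Q e := (star_iff H hs.qu hs.nu hF.sa).2 (right_mem_ln _ _)
  have h1 := (hst _).2 hin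
  rw [e1, star_iff H he' he'0 hs1] at h1
  have hne' : u2 ∉ Submodule.span F {e'} := fun hmem => hm ⟨u2, hs2.nu,
    (Submodule.span_singleton_le_iff_mem _ _).2 h1 hmem, left_mem_ln _ _⟩
  have hv : SPair Q e' u2 := ⟨he', hs2.qu, hp _ h1 _ (left_mem_ln _ _), he'0, hne'⟩
  have c1 : Coplanar (E Q e' u2) (E Q u1 w1) := by
    refine (coplanar_iff H hv hs1).2 ⟨fun e => hm ⟨u2, hs2.nu, e ▸ right_mem_ln _ _, left_mem_ln _ _⟩,
      ⟨e', he'0, left_mem_ln _ _, h1⟩, fun x hx y hy => ?_⟩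
    obtain ⟨p, q, rfl⟩ := mem_ln.1 hx
    rw [pl_add_left, pl_smul_left, pl_smul_left, (hs1.ts h1 hy).2, pl_comm Q u2 y,
      hp _ hy _ (left_mem_ln _ _)]
    ring
  have c2 : Coplanar (E Q e' u2) (E Q u2 w2) := by
    refine (coplanar_iff H hv hs2).2 ⟨fun e => hm ⟨e', he'0, h1, e ▸ left_mem_ln _ _⟩,
      ⟨u2, hs2.nu, right_mem_ln _ _, left_mem_ln _ _⟩, fun x hx y hy => ?_⟩
    obtain ⟨p, q, rfl⟩ := mem_ln.1 hx
    rw [pl_add_left, pl_smul_left, pl_smul_left, hp _ h1 _ hy, (hs2.ts (left_mem_ln _ _) hy).2]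
    ring
  have hvS : E Q e' u2 ∈ Star Q e' := (star_iff H he' he'0 hv).2 (left_mem_ln _ _)
  obtain ⟨z, hz⟩ := α.surjective (E Q e' u2)
  rw [← hz, hst] at hvS
  rw [← hz, ← e1, coplanar_map_iff H α] at c1
  rw [← hz, ← e2, coplanar_map_iff H α] at c2
  obtain ⟨a0, b0, hs0, rfl⟩ := hvS.1
  have m1 : e ∈ ln a0 b0 := (star_iff H hs.qu hs.nu hs0).1 hvS
  have m2 : u ∈ ln a0 b0 := mem_of_meet_both hF.sa hF.sb hF.ab hs0
    ((coplanar_iff H hs0 hF.sa).1 c1).2.1 ((coplanar_iff H hs0 hF.sb).1 c2).2.1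
  exact ((coplanar_iff H hs0 hF.sa).1 c1).1 (hs0.line_of_two m2 m1 hF.sa.nu hF.sa.ind).symm

/-- Preserving one star forces preserving all. -/
theorem pt_all (H : Base Q) (α : MulAut (POmega F ⇑Q)) {e : ι → F} (he : Q e = 0) (he0 : e ≠ 0)
    (hpt : Pt Q α e) (u : ι → F) (hu : Q u = 0) (hu0 : u ≠ 0) : Pt Q α u := by
  by_cases hsp : u ∈ Submodule.span F {e}
  · obtain ⟨c, rfl⟩ := Submodule.mem_span_singleton.1 hsp
    exact pt_smul H (fun h0 => hu0 (by rw [h0, zero_smul])) he he0 hpt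
  by_cases hp : polar ⇑Q e u = 0
  · exact pt_perp H ⟨he, hu, hp, he0, hsp⟩ hpt
  have h : HPair Q e ((polar ⇑Q e u)⁻¹ • u) :=
    ⟨he, by rw [Q_smul, hu, mul_zero], by rw [pl_smul_right, inv_mul_cancel₀ hp]⟩
  obtain ⟨e2, f2, h2, he2, -, -, -⟩ := exists_two_hpairs H h
  have h1 := pt_perp H (spair_perp h he2 h2.ne_zero h2.qe) hpt
  have hs := (spair_perp h.swap (by rwa [perp_swap]) h2.ne_zero h2.qe).swap
  have h3 := pt_perp H hs h1
  have h4 := pt_smul H hp h.qf (smul_ne_zero (inv_ne_zero hp) hu0) h3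
  rwa [smul_inv_smul₀ hp] at h4

end Cfsg.Agent.Triality
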