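import Cfsg.Agent.Lib.Triality.Octonion
import Cfsg.Agent.Lib.AutPOmega.Field
import Cfsg.Agent.Lib.Orth.Models

/-!
# Triality of `PΩ⁺₈`

* `TriEq a b c`, `TriK` : triples of `Ω` preserving `tri`; `TriSim` : triples of similarities
* `triality : MulAut (PΩ⁺₈)` : `om g₁ ↦ om g₂`; `triality_om`, `triality_cube`
* `triality_conjAut`, `triality_conj_swap`, `triality_gal` : relations with similarities, conjugation, field automorphisms
-/

set_option autoImplicit false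
set_option linter.unusedSectionVars false

namespace Cfsg.Agent.Triality

open Cfsg Matrix Module Cfsg.Agent.Orth Cfsg.Agent.AutPOmega
open QuadraticMap (polar)

variable {F : Type*} [Field F] [Fintype F]

/-- The form `Σ xᵢ yᵢ` in dimension eight. -/
noncomputable abbrev Q4 (F : Type*) [Field F] : QuadraticForm F (IJ → F) := Orth.quadPlus 4 F

theorem base4 : Base (Q4 F) := ⟨quadPlus_nondeg 4, by simp⟩

/-- Basis vectors. -/
abbrev bv (i : IJ) : IJ → F := Pi.single i 1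

theorem polar_bv (i : IJ) (x : IJ → F) : polar ⇑(Q4 F) (bv i) x = x i.swap := by
  rw [coe_quadPlus, polar_quadPlus]
  rcases i with i | i <;> simp [Pi.single_apply]

theorem Q_bv (i : IJ) : Q4 F (bv i) = 0 := by
  show quadFormPlus 4 F (bv i) = 0
  rcases i with i | i <;> simp [quadFormPlus, Pi.single_apply]

theorem polar_bv_bv {i j : IJ} (h : j ≠ i.swap) (t : F) : polar ⇑(Q4 F) (bv i) (t • bv j) = 0 := by
  rw [polar_bv]
  simp [Pi.single_apply, h, Ne.symm h]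

/-- Root elements between basis vectors. -/
noncomputable abbrev rt (i j : IJ) (t : F) : IsoGrp (Q4 F) := eich (Q4 F) (bv i) (t • bv j)

theorem rt_ap {i j : IJ} (h : j ≠ i.swap) (t : F) (x : IJ → F) :
    ap (rt i j t) x = x + (x i.swap * t) • bv j - (t * x j.swap) • bv i := by
  rw [eich_ap (Q_bv i) (polar_bv_bv h t), pl_smul_left, polar_bv, polar_bv, Q_smul (Q4 F) t, Q_bv]
  module

/-- `tri` is preserved by the three isometries. -/
def TriEq (a b c : IsoGrp (Q4 F)) : Prop := ∀ x y z, tri (ap a x) (ap b y) (ap c z) = tri x y z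

theorem tri_gen_01 (t : F) : TriEq (rt (.inl 0) (.inl 1) t : IsoGrp (Q4 F)) (rt (.inr 2) (.inr 3) t) (rt (.inl 1) (.inr 0) t) := by
  intro x y z
  rw [rt_ap (by decide), rt_ap (by decide), rt_ap (by decide)]
  simp [tri, Pi.single_apply]
  ring

theorem tri_gen_02 (t : F) : TriEq (rt (.inl 0) (.inl 2) t : IsoGrp (Q4 F)) (rt (.inr 1) (.inr 3) (-t)) (rt (.inl 2) (.inr 0) t) := by
  intro x y z
  rw [rt_ap (by decide), rt_ap (by decide), rt_ap (by decide)]
  simp [tri, Pi.single_apply]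
  ring

theorem tri_gen_03 (t : F) : TriEq (rt (.inl 0) (.inl 3) t : IsoGrp (Q4 F)) (rt (.inr 1) (.inr 2) t) (rt (.inl 3) (.inr 0) t) := by
  intro x y z
  rw [rt_ap (by decide), rt_ap (by decide), rt_ap (by decide)]
  simp [tri, Pi.single_apply]
  ring

theorem tri_gen_05 (t : F) : TriEq (rt (.inl 0) (.inr 1) t : IsoGrp (Q4 F)) (rt (.inr 0) (.inr 1) (-t)) (rt (.inl 2) (.inl 3) (-t)) := by
  intro x y z
  rw [rt_ap (by decide), rt_ap (by decide), rt_ap (by decide)]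
  simp [tri, Pi.single_apply]
  ring

theorem tri_gen_06 (t : F) : TriEq (rt (.inl 0) (.inr 2) t : IsoGrp (Q4 F)) (rt (.inr 0) (.inr 2) (-t)) (rt (.inl 1) (.inl 3) t) := by
  intro x y z
  rw [rt_ap (by decide), rt_ap (by decide), rt_ap (by decide)]
  simp [tri, Pi.single_apply]
  ring

theorem tri_gen_07 (t : F) : TriEq (rt (.inl 0) (.inr 3) t : IsoGrp (Q4 F)) (rt (.inr 0) (.inr 3) (-t)) (rt (.inl 1) (.inl 2) (-t)) := by
  intro x y z
  rw [rt_ap (by decide), rt_ap (by decide), rt_ap (by decide)]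
  simp [tri, Pi.single_apply]
  ring

theorem tri_gen_41 (t : F) : TriEq (rt (.inr 0) (.inl 1) t : IsoGrp (Q4 F)) (rt (.inl 0) (.inl 1) (-t)) (rt (.inr 2) (.inr 3) (-t)) := by
  intro x y z
  rw [rt_ap (by decide), rt_ap (by decide), rt_ap (by decide)]
  simp [tri, Pi.single_apply]
  ring

theorem tri_gen_42 (t : F) : TriEq (rt (.inr 0) (.inl 2) t : IsoGrp (Q4 F)) (rt (.inl 0) (.inl 2) (-t)) (rt (.inr 1) (.inr 3) t) := by
  intro x y z
  rw [rt_ap (by decide), rt_ap (by decide), rt_ap (by decide)]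
  simp [tri, Pi.single_apply]
  ring

theorem tri_gen_43 (t : F) : TriEq (rt (.inr 0) (.inl 3) t : IsoGrp (Q4 F)) (rt (.inl 0) (.inl 3) (-t)) (rt (.inr 1) (.inr 2) (-t)) := by
  intro x y z
  rw [rt_ap (by decide), rt_ap (by decide), rt_ap (by decide)]
  simp [tri, Pi.single_apply]
  ring

theorem tri_gen_45 (t : F) : TriEq (rt (.inr 0) (.inr 1) t : IsoGrp (Q4 F)) (rt (.inl 2) (.inl 3) t) (rt (.inl 0) (.inr 1) (-t)) := by
  intro x y z
  rw [rt_ap (by decide), rt_ap (by decide), rt_ap (by decide)]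
  simp [tri, Pi.single_apply]
  ring

theorem tri_gen_46 (t : F) : TriEq (rt (.inr 0) (.inr 2) t : IsoGrp (Q4 F)) (rt (.inl 1) (.inl 3) (-t)) (rt (.inl 0) (.inr 2) (-t)) := by
  intro x y z
  rw [rt_ap (by decide), rt_ap (by decide), rt_ap (by decide)]
  simp [tri, Pi.single_apply]
  ring

theorem tri_gen_47 (t : F) : TriEq (rt (.inr 0) (.inr 3) t : IsoGrp (Q4 F)) (rt (.inl 1) (.inl 2) t) (rt (.inl 0) (.inr 3) (-t)) := by
  intro x y z
  rw [rt_ap (by decide), rt_ap (by decide), rt_ap (by decide)]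
  simp [tri, Pi.single_apply]
  ring

theorem TriEq.mul {a b c a' b' c' : IsoGrp (Q4 F)} (h : TriEq a b c) (h' : TriEq a' b' c') :
    TriEq (a * a') (b * b') (c * c') := fun x y z => by
  rw [ap_mul, ap_mul, ap_mul, h, h']

theorem TriEq.inv {a b c : IsoGrp (Q4 F)} (h : TriEq a b c) : TriEq a⁻¹ b⁻¹ c⁻¹ := fun x y z => by
  conv_rhs => rw [← ap_ap_inv a x, ← ap_ap_inv b y, ← ap_ap_inv c z, h]

theorem TriEq.shift {a b c : IsoGrp (Q4 F)} (h : TriEq a b c) : TriEq b c a := fun x y z => by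
  rw [tri_cyclic (ap a z), h]
  exact (tri_cyclic z x y).symm

/-- Triples in `Ω` preserving `tri`. -/
def TriK (F : Type*) [Field F] [Fintype F] :
    Subgroup (IsoGrp (Q4 F) × IsoGrp (Q4 F) × IsoGrp (Q4 F)) where
  carrier := {p | (p.1 ∈ Omega F ⇑(Q4 F) ∧ p.2.1 ∈ Omega F ⇑(Q4 F) ∧ p.2.2 ∈ Omega F ⇑(Q4 F)) ∧
    TriEq p.1 p.2.1 p.2.2}
  one_mem' := ⟨⟨one_mem _, one_mem _, one_mem _⟩, fun x y z => by
    show tri (ap 1 x) (ap 1 y) (ap 1 z) = _
    rw [ap_one, ap_one, ap_one]⟩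
  mul_mem' := fun {p p'} h h' =>
    ⟨⟨mul_mem h.1.1 h'.1.1, mul_mem h.1.2.1 h'.1.2.1, mul_mem h.1.2.2 h'.1.2.2⟩, h.2.mul h'.2⟩
  inv_mem' := fun {p} h => ⟨⟨inv_mem h.1.1, inv_mem h.1.2.1, inv_mem h.1.2.2⟩, h.2.inv⟩

theorem mem_TriK_shift {a b c : IsoGrp (Q4 F)} (h : (a, b, c) ∈ TriK F) : (b, c, a) ∈ TriK F :=
  ⟨⟨h.1.2.1, h.1.2.2, h.1.1⟩, h.2.shift⟩

theorem mem_TriK_rt {i1 j1 i2 j2 i3 j3 : IJ} {t1 t2 t3 : F}
    (h : TriEq (rt i1 j1 t1 : IsoGrp (Q4 F)) (rt i2 j2 t2) (rt i3 j3 t3)) :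
    (rt i1 j1 t1, rt i2 j2 t2, rt i3 j3 t3) ∈ TriK F :=
  ⟨⟨base4.eich_mem _ _, base4.eich_mem _ _, base4.eich_mem _ _⟩, h⟩

/-! ### scalars -/

theorem scalar_right {c lam : F} (hlam : lam ≠ 0) {B C : (IJ → F) →ₗ[F] (IJ → F)}
    (hC : Function.Surjective C) (h : ∀ x y z, tri (c • x) (B y) (C z) = lam * tri x y z) :
    ∃ b : F, ∀ y, B y = b • y := by
  have hB : ∀ x y, omul x (B y) = B (omul x y) := by
    intro x y
    refine eq_of_oB fun z => ?_
    obtain ⟨w, rfl⟩ := hC z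
    have h1 := h x y w
    have h2 := h oOne (omul x y) w
    simp only [tri_eq_oB, one_omul] at h1 h2
    rw [← h2] at h1
    have e1 : ∀ (u v : IJ → F) , omul (c • u) v = c • omul u v := fun u v => by
      funext i
      rcases i with i | i <;> fin_cases i <;> simp [omul] <;> ring
    have e2 : ∀ u v : IJ → F, oB (c • u) v = c * oB u v := fun u v => by simp [oB]; ring
    rw [e1, e1, one_omul, e2, e2] at h1
    rcases eq_or_ne c 0 with rfl | hc
    · exfalso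
      have h3 := h oOne (bv (.inl 0)) (bv (.inl 0))
      rw [tri_eq_oB, tri_eq_oB, e1, e2, one_omul, one_omul, zero_mul] at h3
      simp [oB, Pi.single_apply] at h3
      exact hlam h3.symm
    · exact mul_left_cancel₀ hc h1
  set d := B oOne
  have hd : ∀ y, B y = omul y d := fun y => by rw [hB, omul_one]
  have hs : d = d (.inl 0) • oOne := scalar_of_omul fun x y => by rw [← hd, ← hd, hB]
  refine ⟨d (.inl 0), fun y => ?_⟩
  conv_lhs => rw [hd, hs]
  have e1 : omul y (d (.inl 0) • oOne) = d (.inl 0) • omul y oOne := by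
    funext i
    rcases i with i | i <;> fin_cases i <;> simp [omul] <;> ring
  rw [e1, omul_one]

theorem tri_smul_cancel (x y z : IJ → F) (a b : F) :
    tri x (a • y) (b • z) = a * b * tri x y z := by
  simp [tri]; ring

theorem scalar_all {c lam : F} (hlam : lam ≠ 0) {B C : (IJ → F) →ₗ[F] (IJ → F)}
    (hC : Function.Surjective C) (h : ∀ x y z, tri (c • x) (B y) (C z) = lam * tri x y z) :
    (∃ b : F, ∀ y, B y = b • y) ∧ ∃ d : F, ∀ z, C z = d • z := by
  obtain ⟨b, hb⟩ := scalar_right hlam hC h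
  refine ⟨⟨b, hb⟩, lam / (c * b), fun z => ?_⟩
  have hcb : c * b ≠ 0 := by
    intro h0
    have h3 := h oOne (bv (.inl 0)) (bv (.inl 0))
    rw [hb] at h3
    have e : ∀ u v w : IJ → F, tri (c • u) (b • v) w = c * b * tri u v w := fun u v w => by
      simp [tri]; ring
    rw [e, h0, zero_mul] at h3
    simp [tri, oOne, Pi.single_apply] at h3
    exact hlam h3.symm
  refine eq_of_oB (v := (lam / (c * b)) • z) ?_
  intro w
  have h1 := h oOne w z
  rw [hb] at h1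
  simp [tri, oOne] at h1
  have hk : c * b * (lam / (c * b)) = lam := mul_div_cancel₀ _ hcb
  generalize lam / (c * b) = k at hk ⊢
  refine mul_left_cancel₀ hcb ?_
  rw [← hk] at h1
  simp only [oB, Pi.smul_apply, smul_eq_mul]
  linear_combination h1

theorem TriEq.scalar {a b c : IsoGrp (Q4 F)} (h : TriEq a b c) {s : F} (ha : ∀ x, ap a x = s • x) :
    (∃ t : F, ∀ y, ap b y = t • y) ∧ ∃ u : F, ∀ z, ap c z = u • z :=
  scalar_all one_ne_zero (fun z => ⟨ap c⁻¹ z, ap_ap_inv c z⟩) fun x y z => by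
    rw [← ha, one_mul]; exact h x y z

theorem om_eq_one_iff {g : IsoGrp (Q4 F)} (hg : g ∈ Omega F ⇑(Q4 F)) :
    om g = 1 ↔ ∃ a : F, ∀ x, ap g x = a • x := by
  rw [← om_one, om_eq_iff base4 hg (one_mem _)]
  constructor
  · rintro ⟨a, ha, hx⟩
    refine ⟨a, fun x => ?_⟩
    have h1 : x = a • ap g x := by simpa using hx x
    calc ap g x = (a * a) • ap g x := by rw [ha, one_smul]
      _ = a • x := by rw [mul_smul, ← h1]
  · rintro ⟨a, hx⟩
    have ha : a * a = 1 := by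
      have h1 := Q_ap g (bv (.inl 0) + bv (.inr 0))
      rw [hx, Q_smul, Q_add, Q_bv, Q_bv, polar_bv] at h1
      simpa using h1
    exact ⟨a, ha, fun x => by rw [hx, smul_smul, ha, one_smul, ap_one]⟩

theorem TriK.ker_iff {a b c : IsoGrp (Q4 F)} (h : (a, b, c) ∈ TriK F) : om a = 1 ↔ om b = 1 := by
  rw [om_eq_one_iff h.1.1, om_eq_one_iff h.1.2.1]
  exact ⟨fun ⟨s, hs⟩ => (TriEq.scalar h.2 hs).1, fun ⟨s, hs⟩ => (TriEq.scalar h.2.shift hs).2⟩

/-! ### the automorphism -/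

/-- `(g₁, g₂, g₃) ↦ om g₁`. -/
noncomputable def fstHom (F : Type*) [Field F] [Fintype F] : TriK F →* POmega F ⇑(Q4 F) :=
  MonoidHom.mk' (fun p => om p.1.1) fun p q => om_mul p.2.1.1 q.2.1.1

/-- `(g₁, g₂, g₃) ↦ om g₂`. -/
noncomputable def sndHom (F : Type*) [Field F] [Fintype F] : TriK F →* POmega F ⇑(Q4 F) :=
  MonoidHom.mk' (fun p => om p.1.2.1) fun p q => om_mul p.2.1.2.1 q.2.1.2.1

theorem rt_left_mem_range (j : IJ) (hj : j ≠ .inl 0) (hj' : j ≠ .inr 0) (t : F) :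
    (∃ p : TriK F, p.1.1 = rt (.inl 0) j t) ∧ ∃ p : TriK F, p.1.1 = rt (.inr 0) j t := by
  rcases j with j | j <;> fin_cases j
  · exact absurd rfl hj
  · exact ⟨⟨⟨_, mem_TriK_rt (tri_gen_01 t)⟩, rfl⟩, ⟨_, mem_TriK_rt (tri_gen_41 t)⟩, rfl⟩
  · exact ⟨⟨⟨_, mem_TriK_rt (tri_gen_02 t)⟩, rfl⟩, ⟨_, mem_TriK_rt (tri_gen_42 t)⟩, rfl⟩
  · exact ⟨⟨⟨_, mem_TriK_rt (tri_gen_03 t)⟩, rfl⟩, ⟨_, mem_TriK_rt (tri_gen_43 t)⟩, rfl⟩
  · exact absurd rfl hj'
  · exact ⟨⟨⟨_, mem_TriK_rt (tri_gen_05 t)⟩, rfl⟩, ⟨_, mem_TriK_rt (tri_gen_45 t)⟩, rfl⟩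
  · exact ⟨⟨⟨_, mem_TriK_rt (tri_gen_06 t)⟩, rfl⟩, ⟨_, mem_TriK_rt (tri_gen_46 t)⟩, rfl⟩
  · exact ⟨⟨⟨_, mem_TriK_rt (tri_gen_07 t)⟩, rfl⟩, ⟨_, mem_TriK_rt (tri_gen_47 t)⟩, rfl⟩

theorem hpair0 : HPair (Q4 F) (bv (.inl 0)) (bv (.inr 0)) :=
  ⟨Q_bv _, Q_bv _, by rw [polar_bv]; simp⟩

theorem E_mem_range (u : IJ) (hu : u = .inl 0 ∨ u = .inr 0) {w : IJ → F}
    (hw : w ∈ perp (Q4 F) (bv (.inl 0)) (bv (.inr 0))) : E (Q4 F) (bv u) w ∈ (fstHom F).range := by
  classical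
  obtain ⟨h1, h2⟩ := mem_perp.1 hw
  rw [polar_bv] at h1 h2
  have hwj : ∀ j, j = .inl 0 ∨ j = .inr 0 → w j = 0 := by
    rintro j (rfl | rfl)
    · exact h2
    · exact h1
  have hmem : ∀ j, E (Q4 F) (bv u) (w j • bv j) ∈ (fstHom F).range ∧
      polar ⇑(Q4 F) (bv u) (w j • bv j) = 0 := by
    intro j
    by_cases hj : j = .inl 0 ∨ j = .inr 0
    · rw [hwj j hj, zero_smul, E_zero]
      exact ⟨one_mem _, pl_zero_right _ _⟩
    push_neg at hj
    refine ⟨?_, polar_bv_bv ?_ _⟩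
    · rcases hu with rfl | rfl
      · obtain ⟨⟨p, hp⟩, -⟩ := rt_left_mem_range j hj.1 hj.2 (w j)
        exact ⟨p, congrArg om hp⟩
      · obtain ⟨-, p, hp⟩ := rt_left_mem_range j hj.1 hj.2 (w j)
        exact ⟨p, congrArg om hp⟩
    · rcases hu with rfl | rfl
      · exact hj.2
      · exact hj.1
  have key : ∀ s : Finset IJ, E (Q4 F) (bv u) (∑ j ∈ s, w j • bv j) ∈ (fstHom F).range ∧
      polar ⇑(Q4 F) (bv u) (∑ j ∈ s, w j • bv j) = 0 := by
    intro s
    induction s using Finset.induction_on with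
    | empty => rw [Finset.sum_empty, E_zero]; exact ⟨one_mem _, pl_zero_right _ _⟩
    | insert a s ha ih =>
      rw [Finset.sum_insert ha, E_add base4 (Q_bv u) (hmem a).2 ih.2]
      exact ⟨mul_mem (hmem a).1 ih.1, by rw [pl_add_right, (hmem a).2, ih.2, add_zero]⟩
  convert (key Finset.univ).1
  funext i
  simp [Finset.sum_apply, Pi.single_apply]

theorem fstHom_surjective : Function.Surjective (fstHom F) := by
  intro x
  obtain ⟨g, hg, rfl⟩ := exists_om x
  have hG : Good (Q4 F) := Good.of_card base4.nd (.inr (by simp))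
  rw [omega_eq_eichPair hG (by simp) (.inr (by simp)) hpair0] at hg
  suffices h : g ∈ Omega F ⇑(Q4 F) ∧ om g ∈ (fstHom F).range from h.2
  induction hg using Subgroup.closure_induction with
  | mem y hy =>
    obtain ⟨w, hw, rfl | rfl⟩ := hy
    · exact ⟨base4.eich_mem _ _, E_mem_range _ (.inl rfl) hw⟩
    · exact ⟨base4.eich_mem _ _, E_mem_range _ (.inr rfl) hw⟩
  | one => exact ⟨one_mem _, om_one (Q := Q4 F) ▸ one_mem _⟩
  | mul a b _ _ ha hb => exact ⟨mul_mem ha.1 hb.1, om_mul ha.1 hb.1 ▸ mul_mem ha.2 hb.2⟩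
  | inv a _ ha => exact ⟨inv_mem ha.1, om_inv ha.1 ▸ inv_mem ha.2⟩

theorem ker_fst_eq_snd : (fstHom F).ker = (sndHom F).ker := by
  ext ⟨⟨a, b, c⟩, hp⟩
  exact TriK.ker_iff hp

/-- The endomorphism `om g₁ ↦ om g₂`. -/
noncomputable def trialityHom (F : Type*) [Field F] [Fintype F] :
    POmega F ⇑(Q4 F) →* POmega F ⇑(Q4 F) :=
  (fstHom F).liftOfSurjective fstHom_surjective ⟨sndHom F, ker_fst_eq_snd.le⟩

theorem trialityHom_fst (p : TriK F) : trialityHom F (fstHom F p) = sndHom F p :=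
  MonoidHom.liftOfRightInverse_comp_apply _ _ _ _ p

theorem trialityHom_bijective : Function.Bijective (trialityHom F) := by
  have hinj : Function.Injective (trialityHom F) := by
    rw [injective_iff_map_eq_one]
    intro x hx
    obtain ⟨p, rfl⟩ := fstHom_surjective x
    rw [trialityHom_fst, ← MonoidHom.mem_ker, ← ker_fst_eq_snd] at hx
    exact hx
  exact Finite.injective_iff_bijective.1 hinj

/-- The triality automorphism. -/
noncomputable def triality (F : Type*) [Field F] [Fintype F] : MulAut (POmega F ⇑(Q4 F)) :=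
  MulEquiv.ofBijective (trialityHom F) trialityHom_bijective

theorem triality_om {a b c : IsoGrp (Q4 F)} (h : (a, b, c) ∈ TriK F) :
    triality F (om a) = om b := trialityHom_fst ⟨_, h⟩

theorem triality_cube : triality F * triality F * triality F = 1 := by
  refine MulEquiv.ext fun x => ?_
  obtain ⟨⟨⟨a, b, c⟩, h⟩, rfl⟩ := fstHom_surjective x
  show triality F (triality F (triality F (om a))) = om a
  rw [triality_om h, triality_om (mem_TriK_shift h), triality_om (mem_TriK_shift (mem_TriK_shift h))]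

/-! ### similarities -/

/-- Triples of similarities preserving `tri` up to a factor. -/
def TriSim (a b c : OrthOuter.Sim (Q4 F)) : Prop :=
  ∃ lam : F, lam ≠ 0 ∧ ∀ x y z,
    tri (OrthOuter.sap a x) (OrthOuter.sap b y) (OrthOuter.sap c z) = lam * tri x y z

theorem TriSim.shift {a b c : OrthOuter.Sim (Q4 F)} (h : TriSim a b c) : TriSim b c a := by
  obtain ⟨lam, hl, h⟩ := h
  exact ⟨lam, hl, fun x y z => by
    rw [tri_cyclic (OrthOuter.sap a z), h]
    exact congrArg (lam * ·) (tri_cyclic z x y).symm⟩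

theorem isoConj_mem_omega (g : OrthOuter.Sim (Q4 F)) {s : IsoGrp (Q4 F)}
    (hs : s ∈ Omega F ⇑(Q4 F)) : OrthOuter.isoConj (Q4 F) g s ∈ Omega F ⇑(Q4 F) := by
  have h := Subgroup.Characteristic.fixed (H := Omega F ⇑(Q4 F)) inferInstance (OrthOuter.isoConj (Q4 F) g)
  rw [← h] at hs
  exact hs

theorem conjAut_om (g : OrthOuter.Sim (Q4 F)) {s : IsoGrp (Q4 F)} (hs : s ∈ Omega F ⇑(Q4 F)) :
    OrthOuter.conjAut (Q4 F) g (om s) = om (OrthOuter.isoConj (Q4 F) g s) := by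
  rw [om_of_mem hs, om_of_mem (isoConj_mem_omega g hs), OrthOuter.conjAut_mk]
  rfl

theorem ap_isoConj (g : OrthOuter.Sim (Q4 F)) (s : IsoGrp (Q4 F)) (x : IJ → F) :
    ap (OrthOuter.isoConj (Q4 F) g s) x = OrthOuter.sap g (ap s (OrthOuter.sap g⁻¹ x)) := by
  rw [← OrthOuter.sap_toSim, OrthOuter.toSim_isoConj, OrthOuter.sap_mul, OrthOuter.sap_mul]
  rfl

theorem triality_conjAut {a b c : OrthOuter.Sim (Q4 F)} (h : TriSim a b c) :
    triality F * OrthOuter.conjAut (Q4 F) a = OrthOuter.conjAut (Q4 F) b * triality F := by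
  refine MulEquiv.ext fun x => ?_
  obtain ⟨⟨⟨p, q, r⟩, hp⟩, rfl⟩ := fstHom_surjective x
  show triality F (OrthOuter.conjAut (Q4 F) a (om p)) = OrthOuter.conjAut (Q4 F) b (triality F (om p))
  rw [triality_om hp, conjAut_om a hp.1.1, conjAut_om b hp.1.2.1]
  refine triality_om (c := OrthOuter.isoConj (Q4 F) c r)
    ⟨⟨isoConj_mem_omega a hp.1.1, isoConj_mem_omega b hp.1.2.1, isoConj_mem_omega c hp.1.2.2⟩, ?_⟩
  obtain ⟨lam, hl, h⟩ := h
  intro x y z
  show tri (ap (OrthOuter.isoConj _ a p) x) (ap (OrthOuter.isoConj _ b q) y)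
    (ap (OrthOuter.isoConj _ c r) z) = _
  rw [ap_isoConj, ap_isoConj, ap_isoConj, h, hp.2, ← h]
  rw [OrthOuter.sap_sap_inv, OrthOuter.sap_sap_inv, OrthOuter.sap_sap_inv]

theorem oConj_oConj (x : IJ → F) : oConj (oConj x) = x := by
  funext i; rcases i with i | i <;> fin_cases i <;> simp [oConj]

/-- Conjugation as a matrix. -/
noncomputable def cMat (F : Type*) [Field F] : Matrix IJ IJ F :=
  Matrix.of fun i j => oConj (Pi.single j (1 : F) : IJ → F) i

theorem cMat_mulVec (x : IJ → F) : cMat F *ᵥ x = oConj x := by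
  funext i
  rcases i with i | i <;> fin_cases i <;>
    simp [cMat, Matrix.mulVec, dotProduct, Fintype.sum_sum_type, Fin.sum_univ_four, oConj, Pi.single_apply]

theorem cMat_mul_self : cMat F * cMat F = 1 :=
  Matrix.ext_of_mulVec_single fun i => by
    rw [← Matrix.mulVec_mulVec, cMat_mulVec, cMat_mulVec, oConj_oConj, Matrix.one_mulVec]

/-- Conjugation as an isometry. -/
noncomputable def cIso (F : Type*) [Field F] [Fintype F] : IsoGrp (Q4 F) :=
  ⟨⟨cMat F, cMat F, cMat_mul_self, cMat_mul_self⟩, fun x _ => by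
    show quadFormPlus 4 F (cMat F *ᵥ x) = quadFormPlus 4 F x
    rw [cMat_mulVec]; simp [quadFormPlus, oConj, Fin.sum_univ_four]; ring⟩

theorem ap_cIso (x : IJ → F) : ap (cIso F) x = oConj x := by rw [ap_apply]; exact cMat_mulVec x

theorem cIso_mul_self : cIso F * cIso F = 1 := Subtype.ext (Units.ext cMat_mul_self)

/-- The graph automorphism. -/
noncomputable def graphAut (F : Type*) [Field F] [Fintype F] : MulAut (POmega F ⇑(Q4 F)) :=
  OrthOuter.conjAut (Q4 F) (OrthOuter.toSim (Q4 F) (cIso F))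

theorem graphAut_mul_self : graphAut F * graphAut F = 1 := by
  rw [graphAut, ← map_mul, ← map_mul, cIso_mul_self, map_one, map_one]

theorem isoConj_cIso_ap (p : IsoGrp (Q4 F)) (x : IJ → F) :
    ap (OrthOuter.isoConj (Q4 F) (OrthOuter.toSim _ (cIso F)) p) x = oConj (ap p (oConj x)) := by
  have hinv : (cIso F)⁻¹ = cIso F := inv_eq_of_mul_eq_one_right cIso_mul_self
  rw [ap_isoConj, OrthOuter.sap_toSim, ← map_inv, OrthOuter.sap_toSim, hinv, ap_cIso, ap_cIso]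

theorem triality_graph : triality F * graphAut F * triality F = graphAut F := by
  refine MulEquiv.ext fun x => ?_
  obtain ⟨⟨⟨p, q, r⟩, hp⟩, rfl⟩ := fstHom_surjective x
  show triality F (graphAut F (triality F (om p))) = graphAut F (om p)
  rw [triality_om hp, graphAut, conjAut_om _ hp.1.2.1, conjAut_om _ hp.1.1]
  refine triality_om (c := OrthOuter.isoConj (Q4 F) (OrthOuter.toSim _ (cIso F)) r)
    ⟨⟨isoConj_mem_omega _ hp.1.2.1, isoConj_mem_omega _ hp.1.1, isoConj_mem_omega _ hp.1.2.2⟩, ?_⟩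
  intro x y z
  show tri (ap (OrthOuter.isoConj _ _ q) x) (ap (OrthOuter.isoConj _ _ p) y)
    (ap (OrthOuter.isoConj _ _ r) z) = _
  rw [isoConj_cIso_ap, isoConj_cIso_ap, isoConj_cIso_ap, tri_conj, hp.2, tri_conj]

/-! ### field automorphisms -/

theorem semisim_gal (σ : F ≃+* F) : IsSemisimilarityPair ⇑(Q4 F) (1 : GL IJ F) σ :=
  ⟨1, fun v => by
    show quadFormPlus 4 F _ = _ * σ (quadFormPlus 4 F v)
    simp [quadFormPlus, map_sum]⟩

theorem triality_gal (σ : F ≃+* F) :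
    triality F * semiAut (Q4 F) (semisim_gal σ) = semiAut (Q4 F) (semisim_gal σ) * triality F := by
  set φ := semiAut (Q4 F) (semisim_gal σ) with hφ
  have key : ∀ g, g ∈ Omega F ⇑(Q4 F) → ∃ g', g' ∈ Omega F ⇑(Q4 F) ∧ φ (om g) = om g' ∧
      ∀ x : IJ → F, ap g' (σ ∘ x) = σ ∘ ap g x := by
    intro g hg
    obtain ⟨g', hg', he⟩ := exists_om (φ (om g))
    rw [om_of_mem hg, hφ, semiAut, FieldAut.indAut_mk] at he
    set L := FieldAut.liftAut FieldAut.omMat_injective ⟨_, OrthOuter.semi_keep (semisim_gal σ)⟩ ⟨g, hg⟩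
    refine ⟨L.1, L.2, ?_, fun x => ?_⟩
    · rw [om_of_mem L.2, om_of_mem hg, hφ, semiAut, FieldAut.indAut_mk]
    · have hL : ((L.1 : IsoGrp (Q4 F)) : GL IJ F) = OrthOuter.psi 1 σ ((g : IsoGrp (Q4 F)) : GL IJ F) :=
        FieldAut.mat_liftAut (mat := FieldAut.omMat ⇑(Q4 F)) FieldAut.omMat_injective _ _
      rw [ap_apply, ap_apply, hL, ← FieldAut.galGL_mulVec]
      simp [OrthOuter.psi]
  refine MulEquiv.ext fun x => ?_
  obtain ⟨⟨⟨p, q, r⟩, hp⟩, rfl⟩ := fstHom_surjective x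
  show triality F (φ (om p)) = φ (triality F (om p))
  obtain ⟨p', hp', ep, fp⟩ := key p hp.1.1
  obtain ⟨q', hq', eq, fq⟩ := key q hp.1.2.1
  obtain ⟨r', hr', er, fr⟩ := key r hp.1.2.2
  rw [triality_om hp, ep, eq]
  refine triality_om (c := r') ⟨⟨hp', hq', hr'⟩, fun x y z => ?_⟩
  obtain ⟨x, rfl⟩ : ∃ a : IJ → F, σ ∘ a = x := ⟨σ.symm ∘ x, funext fun i => by simp⟩
  obtain ⟨y, rfl⟩ : ∃ a : IJ → F, σ ∘ a = y := ⟨σ.symm ∘ y, funext fun i => by simp⟩
  obtain ⟨z, rfl⟩ : ∃ a : IJ → F, σ ∘ a = z := ⟨σ.symm ∘ z, funext fun i => by simp⟩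
  show tri (ap p' _) (ap q' _) (ap r' _) = _
  rw [fp, fq, fr]
  have := congrArg σ (hp.2 x y z)
  exact (map_tri σ.toRingHom _ _ _).symm.trans (this.trans (map_tri σ.toRingHom _ _ _))

end Cfsg.Agent.Triality
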