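import Mathlib
import Cfsg.Agent.EqLemmas

/-!
# Recognition of `S₃` and `S₄` from generators

* `exists_hom_perm_four` : `s, d, t, i` with the relations of `V₄ ⋊ S₃` give an injective `S₄ →* G`
* `exists_hom_perm_three`
-/

set_option autoImplicit false
set_option linter.unusedSectionVars false

namespace Cfsg.Agent.Triality

open Equiv

variable {G : Type*} [Group G]

theorem pow_fin_two {x : G} (hx : x * x = 1) (a : Fin 2) : x ^ (a + 1 : Fin 2).val = x * x ^ a.val := by
  fin_cases a <;> simp [hx]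

theorem pow_fin_three {x : G} (hx : x * x * x = 1) (a : Fin 3) :
    x ^ (a + 1 : Fin 3).val = x * x ^ a.val := by
  fin_cases a <;> simp [pow_succ, ← mul_assoc, hx, Fin.val_add]

theorem pow_fin_two_add {x : G} (hx : x * x = 1) (a b : Fin 2) :
    x ^ (a + b : Fin 2).val = x ^ a.val * x ^ b.val := by
  fin_cases a <;> fin_cases b <;> simp [hx]

/-- The models of the four generators. -/
def s4 : Perm (Fin 4) := swap 0 1 * swap 2 3
/-- See `s4`. -/
def d4 : Perm (Fin 4) := swap 0 2 * swap 1 3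
/-- See `s4`. -/
def t4 : Perm (Fin 4) := swap 1 2 * swap 2 3
/-- See `s4`. -/
def i4 : Perm (Fin 4) := swap 2 3

/-- Normal forms. -/
abbrev NF4 := Fin 2 × Fin 2 × Fin 3 × Fin 2

/-- The word of a normal form. -/
def word4 {H : Type*} [Group H] (s d t i : H) (x : NF4) : H :=
  s ^ x.1.val * d ^ x.2.1.val * t ^ x.2.2.1.val * i ^ x.2.2.2.val

theorem word4_bij : Function.Bijective (word4 s4 d4 t4 i4) := by decide +kernel

theorem word4_model (x : NF4) :
    s4 * word4 s4 d4 t4 i4 x = word4 s4 d4 t4 i4 (x.1 + 1, x.2) ∧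
    d4 * word4 s4 d4 t4 i4 x = word4 s4 d4 t4 i4 (x.1, x.2.1 + 1, x.2.2) ∧
    t4 * word4 s4 d4 t4 i4 x = word4 s4 d4 t4 i4 (x.2.1, x.1 + x.2.1, x.2.2.1 + 1, x.2.2.2) ∧
    i4 * word4 s4 d4 t4 i4 x = word4 s4 d4 t4 i4 (x.1 + x.2.1, x.2.1, 2 * x.2.2.1, x.2.2.2 + 1) := by
  revert x
  decide +kernel

theorem normal_has_s4 : ∀ p : Perm (Fin 4), p ≠ 1 →
    ∃ q r : Perm (Fin 4), r * p * r⁻¹ = s4 ∨ r * (q * p * q⁻¹ * p⁻¹) * r⁻¹ = s4 := by
  decide +kernel

theorem exists_hom_perm_four (s d t i : G) (hs : s * s = 1) (hd : d * d = 1) (hsd : Commute s d)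
    (ht : t * t * t = 1) (hi : i * i = 1) (hit : i * t = t * t * i) (hts : t * s = d * t)
    (htd : t * d = d * s * t) (his : i * s = s * i) (hid : i * d = d * s * i) (hs1 : s ≠ 1) :
    ∃ Φ : Perm (Fin 4) →* G, Function.Injective Φ ∧ Φ s4 = s ∧ Φ d4 = d ∧ Φ t4 = t ∧ Φ i4 = i ∧
      ∀ p, ∃ x : NF4, Φ p = word4 s d t i x := by
  have g1 : ∀ x : NF4, s * word4 s d t i x = word4 s d t i (x.1 + 1, x.2) := fun x => by
    simp only [word4, pow_fin_two hs]; group
  have g2 : ∀ x : NF4, d * word4 s d t i x = word4 s d t i (x.1, x.2.1 + 1, x.2.2) := fun x => by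
    simp only [word4, pow_fin_two hd]
    rw [← mul_assoc, ← mul_assoc, ← mul_assoc, ← (hsd.pow_left _).eq]
    group
  have hts' : ∀ a : Fin 2, t * s ^ a.val = d ^ a.val * t := fun a => by fin_cases a <;> simp [hts]
  have htd' : ∀ b : Fin 2, t * d ^ b.val = d ^ b.val * s ^ b.val * t := fun b => by
    fin_cases b <;> simp [htd]
  have hid' : ∀ b : Fin 2, i * d ^ b.val = d ^ b.val * s ^ b.val * i := fun b => by
    fin_cases b <;> simp [hid]
  have his' : ∀ a : Fin 2, i * s ^ a.val = s ^ a.val * i := fun a => by fin_cases a <;> simp [his]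
  have hit' : ∀ c : Fin 3, i * t ^ c.val = t ^ (2 * c : Fin 3).val * i := fun c => by
    fin_cases c
    · simp
    · simpa [pow_succ] using hit
    · show i * t ^ 2 = t ^ 1 * i
      rw [sq, pow_one, ← mul_assoc, hit, mul_assoc _ i t, hit, ← mul_assoc, ← mul_assoc, ht, one_mul]
  have g3 : ∀ x : NF4,
      t * word4 s d t i x = word4 s d t i (x.2.1, x.1 + x.2.1, x.2.2.1 + 1, x.2.2.2) := fun x => by
    simp only [word4, pow_fin_two_add hd, pow_fin_three ht, ← mul_assoc]
    rw [hts', mul_assoc (d ^ _) t, htd', ← (hsd.symm.pow_pow x.2.1.val x.2.1.val).eq.symm,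
      ← mul_assoc, ← mul_assoc, (hsd.symm.pow_pow x.1.val x.2.1.val).eq, mul_assoc (s ^ _)]
  have g4 : ∀ x : NF4,
      i * word4 s d t i x = word4 s d t i (x.1 + x.2.1, x.2.1, 2 * x.2.2.1, x.2.2.2 + 1) := fun x => by
    simp only [word4, pow_fin_two_add hs, pow_fin_two hi, ← mul_assoc]
    rw [his', mul_assoc (s ^ _) i, hid', (hsd.symm.pow_pow x.2.1.val x.2.1.val).eq, ← mul_assoc,
      ← mul_assoc, mul_assoc _ i, hit', ← mul_assoc]
  let e := Equiv.ofBijective _ word4_bij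
  let Φ0 : Perm (Fin 4) → G := fun p => word4 s d t i (e.symm p)
  have hΦ : ∀ x, Φ0 (word4 s4 d4 t4 i4 x) = word4 s d t i x := fun x => by
    show word4 s d t i (e.symm (e x)) = _
    rw [e.symm_apply_apply]
  have step : ∀ (G4 : Perm (Fin 4)) (g : G) (L : NF4 → NF4),
      (∀ x, G4 * word4 s4 d4 t4 i4 x = word4 s4 d4 t4 i4 (L x)) →
      (∀ x, g * word4 s d t i x = word4 s d t i (L x)) →
      ∀ (n : ℕ) p, Φ0 (G4 ^ n * p) = g ^ n * Φ0 p := by
    intro G4 g L h4 hg n
    induction n with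
    | zero => intro p; rw [pow_zero, pow_zero, one_mul, one_mul]
    | succ n ih =>
      intro p
      rw [pow_succ', mul_assoc, pow_succ', mul_assoc, ← ih]
      obtain ⟨x, hx⟩ := e.surjective (G4 ^ n * p)
      rw [show G4 ^ n * p = word4 s4 d4 t4 i4 x from hx.symm, h4, hΦ, hΦ, hg]
  have k1 := step s4 s _ (fun x => (word4_model x).1) g1
  have k2 := step d4 d _ (fun x => (word4_model x).2.1) g2
  have k3 := step t4 t _ (fun x => (word4_model x).2.2.1) g3
  have k4 := step i4 i _ (fun x => (word4_model x).2.2.2) g4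
  have hone : Φ0 1 = 1 := by
    rw [show (1 : Perm (Fin 4)) = word4 s4 d4 t4 i4 (0, 0, 0, 0) by simp [word4], hΦ]
    simp [word4]
  have hmul : ∀ p q, Φ0 (p * q) = Φ0 p * Φ0 q := by
    intro p q
    obtain ⟨x, hx⟩ := e.surjective p
    rw [show p = word4 s4 d4 t4 i4 x from hx.symm, hΦ]
    simp only [word4, mul_assoc]
    rw [k1, k2, k3, k4]
  let Φ : Perm (Fin 4) →* G := MonoidHom.mk' Φ0 hmul
  have v1 : Φ s4 = s := by
    have h := k1 1 1; rwa [pow_one, pow_one, mul_one, hone, mul_one] at h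
  have v2 : Φ d4 = d := by
    have h := k2 1 1; rwa [pow_one, pow_one, mul_one, hone, mul_one] at h
  have v3 : Φ t4 = t := by
    have h := k3 1 1; rwa [pow_one, pow_one, mul_one, hone, mul_one] at h
  have v4 : Φ i4 = i := by
    have h := k4 1 1; rwa [pow_one, pow_one, mul_one, hone, mul_one] at h
  refine ⟨Φ, (injective_iff_map_eq_one Φ).2 fun p hp => ?_, v1, v2, v3, v4, fun p => ⟨_, rfl⟩⟩
  by_contra hne
  obtain ⟨q, r, h | h⟩ := normal_has_s4 p hne <;>
  · refine hs1 ?_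
    rw [← v1, ← h]
    simp [hp]

/-- Models of a three-cycle and a transposition. -/
def t3 : Perm (Fin 3) := swap 0 1 * swap 1 2
/-- See `t3`. -/
def i3 : Perm (Fin 3) := swap 1 2

/-- Normal forms. -/
abbrev NF3 := Fin 3 × Fin 2

/-- The word of a normal form. -/
def word3 {H : Type*} [Group H] (t i : H) (x : NF3) : H := t ^ x.1.val * i ^ x.2.val

theorem word3_bij : Function.Bijective (word3 t3 i3) := by decide +kernel

theorem word3_model (x : NF3) :
    t3 * word3 t3 i3 x = word3 t3 i3 (x.1 + 1, x.2) ∧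
    i3 * word3 t3 i3 x = word3 t3 i3 (2 * x.1, x.2 + 1) := by
  revert x
  decide +kernel

theorem normal_has_t3 : ∀ p : Perm (Fin 3), p ≠ 1 →
    ∃ q r : Perm (Fin 3), r * p * r⁻¹ = t3 ∨ r * (q * p * q⁻¹ * p⁻¹) * r⁻¹ = t3 := by
  decide +kernel

theorem exists_hom_perm_three (t i : G) (ht : t * t * t = 1) (hi : i * i = 1) (hit : i * t = t * t * i)
    (ht1 : t ≠ 1) :
    ∃ Φ : Perm (Fin 3) →* G, Function.Injective Φ ∧ Φ t3 = t ∧ Φ i3 = i ∧
      ∀ p, ∃ x : NF3, Φ p = word3 t i x := by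
  have hit' : ∀ c : Fin 3, i * t ^ c.val = t ^ (2 * c : Fin 3).val * i := fun c => by
    fin_cases c
    · simp
    · simpa [pow_succ] using hit
    · show i * t ^ 2 = t ^ 1 * i
      rw [sq, pow_one, ← mul_assoc, hit, mul_assoc _ i t, hit, ← mul_assoc, ← mul_assoc, ht, one_mul]
  have g1 : ∀ x : NF3, t * word3 t i x = word3 t i (x.1 + 1, x.2) := fun x => by
    simp only [word3, pow_fin_three ht]; group
  have g2 : ∀ x : NF3, i * word3 t i x = word3 t i (2 * x.1, x.2 + 1) := fun x => by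
    simp only [word3, pow_fin_two hi, ← mul_assoc, hit']
  let e := Equiv.ofBijective _ word3_bij
  let Φ0 : Perm (Fin 3) → G := fun p => word3 t i (e.symm p)
  have hΦ : ∀ x, Φ0 (word3 t3 i3 x) = word3 t i x := fun x => by
    show word3 t i (e.symm (e x)) = _
    rw [e.symm_apply_apply]
  have step : ∀ (G3 : Perm (Fin 3)) (g : G) (L : NF3 → NF3),
      (∀ x, G3 * word3 t3 i3 x = word3 t3 i3 (L x)) → (∀ x, g * word3 t i x = word3 t i (L x)) →
      ∀ (n : ℕ) p, Φ0 (G3 ^ n * p) = g ^ n * Φ0 p := by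
    intro G3 g L h3 hg n
    induction n with
    | zero => intro p; rw [pow_zero, pow_zero, one_mul, one_mul]
    | succ n ih =>
      intro p
      rw [pow_succ', mul_assoc, pow_succ', mul_assoc, ← ih]
      obtain ⟨x, hx⟩ := e.surjective (G3 ^ n * p)
      rw [show G3 ^ n * p = word3 t3 i3 x from hx.symm, h3, hΦ, hΦ, hg]
  have k1 := step t3 t _ (fun x => (word3_model x).1) g1
  have k2 := step i3 i _ (fun x => (word3_model x).2) g2
  have hone : Φ0 1 = 1 := by
    rw [show (1 : Perm (Fin 3)) = word3 t3 i3 (0, 0) by simp [word3], hΦ]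
    simp [word3]
  have hmul : ∀ p q, Φ0 (p * q) = Φ0 p * Φ0 q := by
    intro p q
    obtain ⟨x, hx⟩ := e.surjective p
    rw [show p = word3 t3 i3 x from hx.symm, hΦ]
    simp only [word3, mul_assoc]
    rw [k1, k2]
  let Φ : Perm (Fin 3) →* G := MonoidHom.mk' Φ0 hmul
  have v1 : Φ t3 = t := by
    have h := k1 1 1; rwa [pow_one, pow_one, mul_one, hone, mul_one] at h
  have v2 : Φ i3 = i := by
    have h := k2 1 1; rwa [pow_one, pow_one, mul_one, hone, mul_one] at h
  refine ⟨Φ, (injective_iff_map_eq_one Φ).2 fun p hp => ?_, v1, v2, fun p => ⟨_, rfl⟩⟩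
  by_contra hne
  obtain ⟨q, r, h | h⟩ := normal_has_t3 p hne <;>
  · refine ht1 ?_
    rw [← v1, ← h]
    simp [hp]

end Cfsg.Agent.Triality
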