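import Cfsg.Agent.Lib.Triality.Aut
import Cfsg.Agent.Lib.Triality.SymModels
import Cfsg.Agent.Lib.AutPOmega.PlusSim
import Cfsg.Agent.Lib.AutPOmega.Split

/-!
# `Out PΩ⁺₈(q)`

* `out_eight_odd` : `S₄ × f` for `q` odd
* `out_eight_two` : `S₃ × f` for `q` even
* `card_out_eight`
-/

set_option autoImplicit false
set_option linter.unusedSectionVars false

namespace Cfsg.Agent.Triality

open Cfsg Matrix Module Cfsg.Agent.Orth Cfsg.Agent.AutPOmega
open QuadraticMap (polar)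

variable {F : Type*} [Field F] [Fintype F]

/-- Outer classes of diagonal similarities. -/
noncomputable def dg (F : Type*) [Field F] [Fintype F] :
    Fˣ × (Fin 4 → Fˣ) →* Out (POmega F ⇑(Q4 F)) := (oc (Q4 F)).comp (pd 4 F)

/-- The class of triality. -/
noncomputable def tOut (F : Type*) [Field F] [Fintype F] : Out (POmega F ⇑(Q4 F)) :=
  QuotientGroup.mk (triality F)

/-- The class of the graph automorphism. -/
noncomputable def iOut (F : Type*) [Field F] [Fintype F] : Out (POmega F ⇑(Q4 F)) :=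
  oc (Q4 F) (OrthOuter.toSim _ (cIso F))

/-- The class of a spinor similarity. -/
noncomputable def sOut (ν : Fˣ) : Out (POmega F ⇑(Q4 F)) := dg F (1, Pi.mulSingle 0 ν)

/-- The class of a similarity of multiplier `ν`. -/
noncomputable def dOut (ν : Fˣ) : Out (POmega F ⇑(Q4 F)) := dg F (ν, 1)

theorem dg_congr {p q : Fˣ × (Fin 4 → Fˣ)} (t : Fˣ) (h1 : q.1 = p.1 * (t * t))
    (h2 : IsSquare (∏ i, t⁻¹ * ((p.2 i)⁻¹ * q.2 i))) : dg F p = dg F q := by
  rw [← inv_mul_eq_one, ← map_inv, ← map_mul]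
  exact oc_pd_eq_one le_rfl t (by simp [h1, mul_comm]) h2

theorem tOut_cube : tOut F * tOut F * tOut F = 1 := by
  rw [tOut, ← QuotientGroup.mk_mul, ← QuotientGroup.mk_mul, triality_cube]; rfl

theorem iOut_sq : iOut F * iOut F = 1 := by
  rw [iOut, ← map_mul, ← map_mul, cIso_mul_self, map_one, map_one]

theorem tit : tOut F * iOut F * tOut F = iOut F := by
  show QuotientGroup.mk (triality F) * QuotientGroup.mk (graphAut F) * QuotientGroup.mk (triality F) =
    (QuotientGroup.mk (graphAut F) : Out (POmega F ⇑(Q4 F)))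
  rw [← QuotientGroup.mk_mul, ← QuotientGroup.mk_mul, triality_graph]

theorem iOut_tOut : iOut F * tOut F = tOut F * tOut F * iOut F := by
  have h1 : tOut F * (iOut F * tOut F) = tOut F * (tOut F * tOut F * iOut F) := by
    rw [← mul_assoc (tOut F) (iOut F), tit, ← mul_assoc, ← mul_assoc, tOut_cube, one_mul]
  exact mul_left_cancel h1

theorem triple_diag (ν : Fˣ) :
    TriSim (pd 4 F (1, Pi.mulSingle 0 ν)) (pd 4 F (ν, 1)) (pd 4 F (ν⁻¹, Pi.mulSingle 0 ν⁻¹)) := by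
  refine ⟨1, one_ne_zero, fun x y z => ?_⟩
  have hν := ν.ne_zero
  simp [sap_pd, pdVal, tri, Pi.mulSingle_apply]
  field_simp

theorem tOut_conj {a b c : OrthOuter.Sim (Q4 F)} (h : TriSim a b c) :
    tOut F * oc (Q4 F) a = oc (Q4 F) b * tOut F := by
  rw [oc_apply, oc_apply, tOut, ← QuotientGroup.mk_mul, ← QuotientGroup.mk_mul, triality_conjAut h]

theorem tOut_sOut (ν : Fˣ) : tOut F * sOut ν = dOut ν * tOut F := tOut_conj (triple_diag ν)

theorem tOut_dOut (ν : Fˣ) : tOut F * dOut ν = dOut ν * sOut ν * tOut F := by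
  refine (tOut_conj (triple_diag ν).shift).trans ?_
  congr 1
  rw [dOut, sOut, ← map_mul]
  refine dg_congr ν ?_ ?_
  · simp
  · refine ⟨ν⁻¹, ?_⟩
    simp [Fin.prod_univ_four, Pi.mulSingle_apply]

theorem iOut_dg (p : Fˣ × (Fin 4 → Fˣ)) :
    iOut F * dg F p = dg F (p.1, Function.update p.2 0 (p.1 * (p.2 0)⁻¹)) * iOut F := by
  rw [iOut, dg, MonoidHom.comp_apply, MonoidHom.comp_apply, ← map_mul, ← map_mul]
  congr 1
  refine OrthOuter.ext_sap fun x => ?_
  rw [OrthOuter.sap_mul, OrthOuter.sap_mul, OrthOuter.sap_toSim, OrthOuter.sap_toSim, sap_pd, sap_pd,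
    ap_cIso, ap_cIso]
  funext j
  rcases j with j | j <;> fin_cases j <;> simp [oConj, pdVal]

theorem iOut_sOut (ν : Fˣ) : iOut F * sOut ν = sOut ν * iOut F := by
  rw [sOut, iOut_dg]
  congr 1
  refine dg_congr 1 (by simp) ⟨ν, ?_⟩
  simp [Fin.prod_univ_four, Function.update_apply, Pi.mulSingle_apply]

theorem iOut_dOut (ν : Fˣ) : iOut F * dOut ν = dOut ν * sOut ν * iOut F := by
  rw [dOut, sOut, iOut_dg, ← map_mul]
  congr 1
  refine dg_congr 1 (by simp) ⟨1, ?_⟩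
  simp [Fin.prod_univ_four, Function.update_apply, Pi.mulSingle_apply]

theorem sOut_sq (ν : Fˣ) : sOut ν * sOut ν = 1 := by
  rw [sOut, ← map_mul]
  refine oc_pd_eq_one le_rfl 1 (by simp) ⟨ν, ?_⟩
  simp [Fin.prod_univ_four, Pi.mulSingle_apply]

theorem dOut_sq (ν : Fˣ) : dOut ν * dOut ν = 1 := by
  rw [dOut, ← map_mul]
  refine oc_pd_eq_one le_rfl ν (by simp) ⟨ν⁻¹ * ν⁻¹, ?_⟩
  simp [mul_assoc]
  group

theorem sOut_dOut_comm (ν : Fˣ) : Commute (sOut ν) (dOut ν) := by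
  show dg F _ * dg F _ = dg F _ * dg F _
  rw [← map_mul, ← map_mul, mul_comm]

theorem sOut_ne_one {ν : Fˣ} (hν : ¬ IsSquare ν) : sOut ν ≠ 1 := by
  intro h
  refine hν (isSquare_of_oc_pd le_rfl (p := (ν, (1 : Fin 4 → Fˣ))) ?_)
  have h2 := tOut_sOut ν
  rw [h, mul_one] at h2
  exact mul_eq_right.1 h2.symm

theorem swap_eq : swapAt (F := F) (m := 4) 0 = cIso F * pdIso 4 F (fun i => if i = 0 then 1 else -1) := by
  refine ext_ap fun x => ?_
  rw [ap_mul, swapAt_ap, ap_cIso]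
  show _ = oConj (OrthOuter.sap (pd 4 F (1, _)) x)
  rw [sap_pd]
  funext j
  rcases j with j | j <;> fin_cases j <;> simp [oConj, pdVal, Equiv.swap_apply_of_ne_of_ne]

/-- The classes of similarities are words in `s`, `d`, `i`. -/
theorem exists_word (ν : Fˣ) (hν : (2 : F) = 0 ∨ ¬ IsSquare ν) (x : OrthOuter.Sim (Q4 F)) :
    oc (Q4 F) x ∈ Subgroup.closure ({sOut ν, dOut ν, iOut F} : Set (Out (POmega F ⇑(Q4 F)))) := by
  classical
  set S := Subgroup.closure ({sOut ν, dOut ν, iOut F} : Set (Out (POmega F ⇑(Q4 F))))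
  have hs : sOut ν ∈ S := Subgroup.subset_closure (by simp)
  have hd : dOut ν ∈ S := Subgroup.subset_closure (by simp)
  have hi : iOut F ∈ S := Subgroup.subset_closure (by simp)
  have hiso : ∀ a : Fin 4 → Fˣ, dg F (1, a) ∈ S := by
    intro a
    by_cases h : IsSquare (∏ i, a i)
    · rw [show dg F (1, a) = 1 from oc_pd_eq_one le_rfl 1 (by simp) (by simpa using h)]; exact one_mem _
    rcases hν with h2 | hn
    · exfalso
      haveI : CharP F 2 := CharTwo.of_one_ne_zero_of_two_eq_zero one_ne_zero h2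
      obtain ⟨r, hr⟩ := FiniteField.isSquare_of_char_two (ringChar.eq F 2) ((∏ i, a i : Fˣ) : F)
      exact h ⟨Units.mk0 r (fun h0 => (∏ i, a i).ne_zero (by rw [hr, h0, mul_zero])), Units.ext hr⟩
    rw [show dg F (1, a) = sOut ν from dg_congr 1 (by simp) ?_]
    · exact hs
    have cast : ∀ u : Fˣ, IsSquare (u : F) → IsSquare u := fun u ⟨r, hr⟩ =>
      ⟨Units.mk0 r (fun h0 => u.ne_zero (by rw [hr, h0, mul_zero])), Units.ext hr⟩
    simp only [inv_one, one_mul]
    rw [Finset.prod_mul_distrib, Finset.prod_inv_distrib, Fintype.prod_pi_mulSingle']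
    refine cast _ ((quadraticChar_one_iff_isSquare (Units.ne_zero _)).1 ?_)
    rw [Units.val_mul, map_mul, quadraticChar_neg_one_iff_not_isSquare.2 fun hc => hn (cast _ hc),
      quadraticChar_neg_one_iff_not_isSquare.2 fun hc => h (by simpa using (cast _ hc).inv)]
    norm_num
  have hr : oc (Q4 F) (OrthOuter.toSim _ (swapAt (m := 4) (0 : Fin 4))) ∈ S := by
    rw [swap_eq, map_mul, map_mul, toSim_pdIso]
    exact mul_mem hi (hiso _)
  obtain ⟨j, k, l, h⟩ := exists_oc_eq le_rfl (0 : Fin 4) hν x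
  rw [h]
  refine mul_mem ?_ (pow_mem hr l)
  show dg F _ ∈ S
  rw [show ((ν ^ j, Pi.mulSingle 0 (ν ^ k)) : Fˣ × (Fin 4 → Fˣ)) = (ν, 1) ^ j * (1, Pi.mulSingle 0 (ν ^ k)) by
    simp [Prod.pow_mk], map_mul, map_pow]
  exact mul_mem (pow_mem hd j) (hiso _)

/-- A field automorphism in `Out`. -/
noncomputable def galOut (F : Type*) [Field F] [Fintype F] :
    (F ≃+* F) →* Out (POmega F ⇑(Q4 F)) := (QuotientGroup.mk' _).comp (galHom 4 F)

theorem galOut_tOut (σ : F ≃+* F) : Commute (galOut F σ) (tOut F) := by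
  show QuotientGroup.mk (galHom 4 F σ) * QuotientGroup.mk (triality F) =
    (QuotientGroup.mk (triality F) : Out (POmega F ⇑(Q4 F))) * QuotientGroup.mk (galHom 4 F σ)
  rw [← QuotientGroup.mk_mul, ← QuotientGroup.mk_mul]
  exact congrArg _ (triality_gal σ).symm

theorem galOut_iOut (σ : F ≃+* F) : Commute (galOut F σ) (iOut F) := by
  show QuotientGroup.mk (galHom 4 F σ) * QuotientGroup.mk (graphAut F) =
    (QuotientGroup.mk (graphAut F) : Out (POmega F ⇑(Q4 F))) * QuotientGroup.mk (galHom 4 F σ)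
  rw [← QuotientGroup.mk_mul, ← QuotientGroup.mk_mul]
  refine congrArg _ (gal_conjAut σ _ _ (Units.ext ?_))
  rw [FieldAut.galGL_apply_coe, OrthOuter.toSim_coe]
  show (cMat F).map σ = cMat F
  ext i j
  rw [Matrix.map_apply]
  simp only [cMat, Matrix.of_apply]
  rcases i with i | i <;> fin_cases i <;> simp [oConj, Pi.single_apply, apply_ite σ]

theorem galOut_sOut (p : ℕ) (hp : Odd p ∨ (2 : F) = 0) (σ : F ≃+* F) (hσ : ∀ c, σ c = c ^ p) (ν : Fˣ) :
    Commute (galOut F σ) (sOut ν) := by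
  show galOut F σ * _ = _
  have h1 : galOut F σ * sOut ν =
      dg F (Units.map σ.toMonoidHom 1, fun i => Units.map σ.toMonoidHom ((Pi.mulSingle (0 : Fin 4) ν : Fin 4 → Fˣ) i)) *
        galOut F σ := by
    show QuotientGroup.mk (galHom 4 F σ) * QuotientGroup.mk (OrthOuter.conjAut _ (pd 4 F _)) =
      (QuotientGroup.mk (OrthOuter.conjAut _ (pd 4 F _)) : Out (POmega F ⇑(Q4 F))) * QuotientGroup.mk _
    rw [← QuotientGroup.mk_mul, ← QuotientGroup.mk_mul, gal_pd]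
  rw [h1]
  congr 1
  have hmap : Units.map σ.toMonoidHom ν = ν ^ p := Units.ext (by simp [hσ])
  rw [map_one, show (fun i => Units.map σ.toMonoidHom ((Pi.mulSingle (0 : Fin 4) ν : Fin 4 → Fˣ) i)) =
      Pi.mulSingle (0 : Fin 4) (ν ^ p) from funext fun i => by
    rw [← hmap]
    exact Pi.apply_mulSingle (fun _ => Units.map σ.toMonoidHom) (fun _ => map_one _) _ _ i]
  refine dg_congr 1 (by simp) ?_
  simp [Fin.prod_univ_four, Pi.mulSingle_apply]
  rcases hp with ⟨k, rfl⟩ | h2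
  · exact ⟨(ν ^ k)⁻¹, by group⟩
  · haveI : CharP F 2 := CharTwo.of_one_ne_zero_of_two_eq_zero one_ne_zero h2
    obtain ⟨r, hr⟩ := FiniteField.isSquare_of_char_two (ringChar.eq F 2) (((ν ^ p)⁻¹ * ν : Fˣ) : F)
    exact ⟨Units.mk0 r (fun h0 => ((ν ^ p)⁻¹ * ν).ne_zero (by rw [hr, h0, mul_zero])), Units.ext hr⟩

theorem galOut_dOut {σ : F ≃+* F} {ν : Fˣ} (h : Commute (galOut F σ) (sOut ν)) :
    Commute (galOut F σ) (dOut ν) := by
  have e : dOut ν = tOut F * sOut ν * (tOut F)⁻¹ := eq_mul_inv_of_mul_eq (tOut_sOut ν).symm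
  rw [e]
  exact ((galOut_tOut σ).mul_right h).mul_right (galOut_tOut σ).inv_right

/-- `Out` is generated by the five classes. -/
theorem mem_of_gens (ν : Fˣ) (hν : (2 : F) = 0 ∨ ¬ IsSquare ν) {S : Subgroup (Out (POmega F ⇑(Q4 F)))}
    (hs : sOut ν ∈ S) (hd : dOut ν ∈ S) (hi : iOut F ∈ S) (ht : tOut F ∈ S)
    (hg : ∀ σ, galOut F σ ∈ S) (y : Out (POmega F ⇑(Q4 F))) : y ∈ S := by
  have hsim : ∀ x, oc (Q4 F) x ∈ S := fun x => by
    refine (Subgroup.closure_le S).2 ?_ (exists_word ν hν x)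
    rintro z (rfl | rfl | rfl) <;> assumption
  have hsemi : ∀ {g : GL IJ F} {σ : F ≃+* F} (hs' : IsSemisimilarityPair ⇑(Q4 F) g σ),
      (QuotientGroup.mk (semiAut (Q4 F) hs') : Out (POmega F ⇑(Q4 F))) ∈ S := by
    intro g σ hs'
    obtain ⟨c, hc⟩ := id hs'
    have hgs : IsSemisimilarityPair ⇑(Q4 F) g (1 : F ≃+* F) := by
      refine ⟨c, fun v => ?_⟩
      obtain ⟨w, hw⟩ : ∃ w : IJ → F, σ ∘ w = v := ⟨σ.symm ∘ v, funext fun j => by simp⟩
      obtain ⟨c', hc'⟩ := semisim_gal (F := F) σ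
      have e1 : σ (Q4 F w) = Q4 F v := by
        rw [← hw]
        show σ (quadFormPlus 4 F w) = quadFormPlus 4 F _
        simp [quadFormPlus, map_sum]
      show Q4 F ((g : Matrix IJ IJ F) *ᵥ v) = _ * Q4 F v
      rw [← e1, ← hw]
      exact hc w
    rw [show semiAut (Q4 F) hs' = semiAut (Q4 F) hgs * galHom 4 F σ from by
      show _ = _ * semiAut (Q4 F) (semisim_gal_plus σ)
      rw [semiAut_mul]
      exact semiAut_congr _ _ (by simp) (one_mul σ).symm, semiAut_one_eq hgs, QuotientGroup.mk_mul]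
    exact mul_mem (hsim _) (hg σ)
  obtain ⟨α, rfl⟩ := QuotientGroup.mk_surjective y
  rcases aut_cases α with ⟨g, σ, hs', rfl⟩ | ⟨x, g, σ, hs', rfl⟩
  · exact hsemi hs'
  · rw [QuotientGroup.mk_mul, QuotientGroup.mk_mul]
    exact mul_mem (mul_mem (hsim x) ht) (hsemi hs')

theorem galOut_trivial {σ : F ≃+* F} {x : OrthOuter.Sim (Q4 F)} (c : ℕ)
    (h : galOut F σ = oc (Q4 F) x * tOut F ^ c) : σ = 1 := by
  have h' : (QuotientGroup.mk (galHom 4 F σ) : Out (POmega F ⇑(Q4 F))) =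
      QuotientGroup.mk (OrthOuter.conjAut (Q4 F) x * triality F ^ c) := by
    rw [QuotientGroup.mk_mul, QuotientGroup.mk_pow]; exact h
  rw [QuotientGroup.eq, OrthOuter.inn_eq] at h'
  obtain ⟨_, ⟨o, -, rfl⟩, he⟩ := h'
  -- triality to the power `c` is semilinear
  obtain ⟨g, τ, hgτ, hval⟩ : ∃ (g : GL IJ F) (τ : F ≃+* F) (hg : IsSemisimilarityPair ⇑(Q4 F) g τ),
      triality F ^ c = semiAut (Q4 F) hg := by
    obtain ⟨h1, e1⟩ := conjAut_eq_semiAut x⁻¹
    obtain ⟨h2, e2⟩ := conjAut_eq_semiAut (OrthOuter.toSim (Q4 F) o)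
    refine ⟨_, _, OrthOuter.semisim_mul h1 (OrthOuter.semisim_mul (semisim_gal_plus σ) h2), ?_⟩
    rw [← semiAut_mul h1 (OrthOuter.semisim_mul (semisim_gal_plus σ) h2),
      ← semiAut_mul (semisim_gal_plus σ) h2, ← e1, ← e2]
    show _ = _ * (galHom 4 F σ * _)
    rw [he, map_inv]
    group
  have hc : triality F ^ c = 1 := by
    have h3 : triality F ^ 3 = 1 := by rw [pow_succ, sq, triality_cube]
    rw [pow_eq_pow_mod c h3] at hval ⊢
    have hlt := Nat.mod_lt c (show 0 < 3 by norm_num)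
    interval_cases hm : c % 3
    · exact pow_zero _
    · exact absurd (by rwa [pow_one] at hval) (triality_ne_semi hgτ)
    · refine absurd ?_ (triality_ne_semi (OrthOuter.semisim_mul hgτ hgτ))
      rw [← semiAut_mul hgτ hgτ, ← hval]
      calc triality F = triality F * triality F ^ 3 := by rw [h3, mul_one]
        _ = _ := by rw [← pow_succ', ← pow_add]
  rw [hc, mul_one] at he
  refine semi_field (semisim_gal_plus (m := 4) σ) (x := x * (OrthOuter.toSim (Q4 F) o)⁻¹) ?_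
  rw [map_mul, map_inv]
  show galHom 4 F σ = _
  rw [he]
  group

/-- Assembling `X × C_f`. -/
theorem assemble {X : Type*} [Group X] [Finite X] {O : Type*} [Group O] [Finite O] (Φ : X →* O)
    (hΦ : Function.Injective Φ) (f : ℕ) [NeZero f] (φ : O) (hφ : φ ^ f = 1)
    (hcomm : ∀ x, Commute (Φ x) φ) (htriv : ∀ (x : X) (k : ℕ), φ ^ k = Φ x → f ∣ k)
    (hgen : ∀ S : Subgroup O, (∀ x, Φ x ∈ S) → φ ∈ S → S = ⊤) :
    Nonempty (O ≃* X × Multiplicative (ZMod f)) := by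
  let Ψ : X × Multiplicative (ZMod f) →* O := MonoidHom.noncommCoprod Φ (zmodHom f φ hφ) fun x i => by
    obtain ⟨i, rfl⟩ := Multiplicative.ofAdd.surjective i
    rw [zmodHom_apply]
    exact (hcomm x).pow_right _
  have hinj : Function.Injective Ψ := by
    rw [injective_iff_map_eq_one]
    rintro ⟨x, i⟩ h
    obtain ⟨i, rfl⟩ := Multiplicative.ofAdd.surjective i
    have h' : Φ x * φ ^ i.val = 1 := by rw [← zmodHom_apply f φ hφ]; exact h
    have hd := htriv x⁻¹ i.val (by rw [map_inv, eq_inv_of_mul_eq_one_right h'])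
    have hi : i.val = 0 := Nat.eq_zero_of_dvd_of_lt hd (ZMod.val_lt i)
    rw [hi, pow_zero, mul_one] at h'
    refine Prod.ext (hΦ (h'.trans (map_one Φ).symm)) ?_
    rw [(ZMod.val_eq_zero i).1 hi]; rfl
  have hsurj : Function.Surjective Ψ := by
    rw [← MonoidHom.range_eq_top]
    refine hgen _ (fun x => ⟨(x, 1), by simp [Ψ]⟩) ⟨(1, Multiplicative.ofAdd 1), ?_⟩
    show Φ 1 * zmodHom f φ hφ (Multiplicative.ofAdd (1 : ZMod f)) = φ
    rw [map_one, one_mul, zmodHom_apply]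
    conv_rhs => rw [← pow_one φ]
    rw [← Nat.cast_one, ZMod.val_natCast, pow_eq_pow_mod 1 hφ]
  exact ⟨(MulEquiv.ofBijective Ψ ⟨hinj, hsurj⟩).symm⟩

theorem finite_aut : Finite (MulAut (POmega F ⇑(Q4 F))) :=
  Finite.of_injective (fun a : MulAut (POmega F ⇑(Q4 F)) => (a : POmega F ⇑(Q4 F) → POmega F ⇑(Q4 F)))
    DFunLike.coe_injective

theorem tOut_pow_iOut_pow (c e : ℕ) : ∃ c', tOut F ^ c * iOut F ^ e = iOut F ^ e * tOut F ^ c' := by
  have h1 : SemiconjBy (iOut F) (tOut F * tOut F) (tOut F) := by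
    show iOut F * (tOut F * tOut F) = tOut F * iOut F
    rw [← mul_assoc, iOut_tOut, mul_assoc _ (iOut F), iOut_tOut]
    simp only [← mul_assoc]
    rw [tOut_cube, one_mul]
  induction e with
  | zero => exact ⟨c, by simp⟩
  | succ e ih =>
    obtain ⟨c', hc'⟩ := ih
    refine ⟨2 * c', ?_⟩
    rw [pow_succ, ← mul_assoc, hc', mul_assoc, mul_assoc, pow_mul, sq, (h1.pow_right c').eq]

theorem exists_word_sim (ν : Fˣ) (a b e : ℕ) :
    sOut ν ^ a * dOut ν ^ b * iOut F ^ e =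
      oc (Q4 F) (pd 4 F (1, Pi.mulSingle 0 ν) ^ a * pd 4 F (ν, 1) ^ b *
        OrthOuter.toSim _ (cIso F) ^ e) := by
  simp only [map_mul, map_pow]
  rfl

set_option maxHeartbeats 1000000 in
theorem out_eight_odd {p f : ℕ} [Fact p.Prime] (hf : 1 ≤ f) (hF : Fintype.card F = p ^ f) (hp : p ≠ 2) :
    Nonempty (Out (POmega F (quadFormPlus 4 F)) ≃* Equiv.Perm (Fin 4) × Multiplicative (ZMod f)) := by
  obtain ⟨σ, hσ, hord, hC⟩ := exists_frob p f hf hF
  haveI : Finite (F ≃+* F) := Nat.finite_of_card_ne_zero (by omega)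
  haveI := finite_aut (F := F)
  haveI : NeZero f := ⟨by omega⟩
  have hodd : Odd p := (Fact.out : p.Prime).odd_of_ne_two hp
  have h2 : ringChar F ≠ 2 := fun h => by
    have := FiniteField.even_card_of_char_two h
    rw [hF] at this
    exact Nat.not_even_iff_odd.2 hodd.pow (Nat.even_iff.2 this)
  obtain ⟨r, hr⟩ := FiniteField.exists_nonsquare h2
  set ν : Fˣ := Units.mk0 r (fun h0 => hr (h0 ▸ ⟨0, by simp⟩))
  have hν : ¬ IsSquare ν := fun ⟨c, hc⟩ => hr ⟨c, by rw [← Units.val_mul, ← hc]; rfl⟩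
  obtain ⟨Φ, hΦ, v1, v2, v3, v4, hw⟩ := exists_hom_perm_four (sOut ν) (dOut ν) (tOut F) (iOut F) (sOut_sq ν)
    (dOut_sq ν) (sOut_dOut_comm ν) tOut_cube iOut_sq iOut_tOut (tOut_sOut ν) (tOut_dOut ν) (iOut_sOut ν)
    (iOut_dOut ν) (sOut_ne_one hν)
  have hs := galOut_sOut p (.inl hodd) σ hσ ν
  refine assemble Φ hΦ f (galOut F σ) ?_ (fun x => ?_) (fun x k h => ?_) fun S hX hg => ?_
  · rw [← map_pow, ← hord, pow_orderOf_eq_one, map_one]
  · obtain ⟨y, hy⟩ := hw x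
    rw [hy, word4]
    exact ((((hs.pow_right _).mul_right ((galOut_dOut hs).pow_right _)).mul_right
      ((galOut_tOut σ).pow_right _)).mul_right ((galOut_iOut σ).pow_right _)).symm
  · obtain ⟨⟨a, b, c, e⟩, hy⟩ := hw x
    rw [← map_pow, hy, word4] at h
    obtain ⟨c', hc'⟩ := tOut_pow_iOut_pow (F := F) c.val e.val
    have h' : galOut F (σ ^ k) = oc (Q4 F) (pd 4 F (1, Pi.mulSingle 0 ν) ^ a.val * pd 4 F (ν, 1) ^ b.val *
        OrthOuter.toSim _ (cIso F) ^ e.val) * tOut F ^ c' := by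
      rw [← exists_word_sim, mul_assoc, ← hc', ← mul_assoc]
      exact h
    exact hord ▸ orderOf_dvd_of_pow_eq_one (galOut_trivial c' h')
  · refine Subgroup.eq_top_iff' S |>.2 (mem_of_gens ν (.inr hν) (v1 ▸ hX _) (v2 ▸ hX _) (v4 ▸ hX _)
      (v3 ▸ hX _) fun τ => ?_)
    obtain ⟨i, hi⟩ := Subgroup.mem_zpowers_iff.1
      ((Subgroup.eq_top_of_card_eq (Subgroup.zpowers σ) (by rw [Nat.card_zpowers, hord, hC])) ▸
        Subgroup.mem_top τ)
    rw [← hi, map_zpow]
    exact zpow_mem hg i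

set_option maxHeartbeats 1000000 in
theorem out_eight_two {f : ℕ} (hf : 1 ≤ f) (hF : Fintype.card F = 2 ^ f) :
    Nonempty (Out (POmega F (quadFormPlus 4 F)) ≃* Equiv.Perm (Fin 3) × Multiplicative (ZMod f)) := by
  haveI : Fact (Nat.Prime 2) := ⟨Nat.prime_two⟩
  obtain ⟨σ, hσ, hord, hC⟩ := exists_frob 2 f hf hF
  haveI : Finite (F ≃+* F) := Nat.finite_of_card_ne_zero (by omega)
  haveI := finite_aut (F := F)
  haveI : NeZero f := ⟨by omega⟩
  have h2 : (2 : F) = 0 := by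
    have h1 : ((2 ^ f : ℕ) : F) = 0 := hF ▸ Nat.cast_card_eq_zero F
    push_cast at h1
    exact (pow_eq_zero_iff (by omega)).1 h1
  have ht1 : tOut F ≠ 1 := fun h => by
    have h' : triality F ∈ Inn (POmega F ⇑(Q4 F)) := (QuotientGroup.eq_one_iff _).1 h
    rw [OrthOuter.inn_eq] at h'
    obtain ⟨_, ⟨o, -, rfl⟩, he⟩ := h'
    obtain ⟨h1, e1⟩ := conjAut_eq_semiAut (OrthOuter.toSim (Q4 F) o)
    exact triality_ne_semi h1 (he.symm.trans e1)
  obtain ⟨Φ, hΦ, v3, v4, hw⟩ := exists_hom_perm_three (tOut F) (iOut F) tOut_cube iOut_sq iOut_tOut ht1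
  refine assemble Φ hΦ f (galOut F σ) ?_ (fun x => ?_) (fun x k h => ?_) fun S hX hg => ?_
  · rw [← map_pow, ← hord, pow_orderOf_eq_one, map_one]
  · obtain ⟨y, hy⟩ := hw x
    rw [hy, word3]
    exact (((galOut_tOut σ).pow_right _).mul_right ((galOut_iOut σ).pow_right _)).symm
  · obtain ⟨⟨c, e⟩, hy⟩ := hw x
    rw [← map_pow, hy, word3] at h
    obtain ⟨c', hc'⟩ := tOut_pow_iOut_pow (F := F) c.val e.val
    have h' : galOut F (σ ^ k) = oc (Q4 F) (OrthOuter.toSim _ (cIso F) ^ e.val) * tOut F ^ c' := by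
      rw [map_pow (oc (Q4 F))]
      exact h.trans hc'
    exact hord ▸ orderOf_dvd_of_pow_eq_one (galOut_trivial c' h')
  · have hone : (dg F (1, 1)) = 1 := map_one _
    have hd : dOut (1 : Fˣ) = 1 := hone
    have hs : sOut (1 : Fˣ) = 1 := by rw [sOut, Pi.mulSingle_one]; exact hone
    refine Subgroup.eq_top_iff' S |>.2 (mem_of_gens 1 (.inl h2) (hs ▸ one_mem S) (hd ▸ one_mem S)
      (v4 ▸ hX _) (v3 ▸ hX _) fun τ => ?_)
    obtain ⟨i, hi⟩ := Subgroup.mem_zpowers_iff.1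
      ((Subgroup.eq_top_of_card_eq (Subgroup.zpowers σ) (by rw [Nat.card_zpowers, hord, hC])) ▸
        Subgroup.mem_top τ)
    rw [← hi, map_zpow]
    exact zpow_mem hg i

theorem card_out_eight {p f : ℕ} [Fact p.Prime] (hf : 1 ≤ f) (hF : Fintype.card F = p ^ f) :
    Nat.card (Out (POmega F (quadFormPlus 4 F))) = (if p = 2 then 6 else 24) * f := by
  haveI : NeZero f := ⟨by omega⟩
  split_ifs with hp
  · subst hp
    obtain ⟨e⟩ := out_eight_two hf hF
    rw [Nat.card_congr e.toEquiv, Nat.card_prod, Nat.card_perm]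
    simp [Nat.factorial]
  · obtain ⟨e⟩ := out_eight_odd hf hF hp
    rw [Nat.card_congr e.toEquiv, Nat.card_prod, Nat.card_perm]
    simp [Nat.factorial]

end Cfsg.Agent.Triality
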