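import Cfsg.Agent.Lib.Triality.Group
import Cfsg.Agent.Lib.Triality.Stars

/-!
# `Aut PΩ⁺₈ = Γ ∪ Γ τ Γ`

* `aut_cases` : an automorphism is semilinear, or a similarity times triality times semilinear
* `triality_ne_semi` : triality is not semilinear
* `semi_field` : the field part of a semisimilarity is determined by its action
-/

set_option autoImplicit false
set_option linter.unusedSectionVars false

namespace Cfsg.Agent.Triality

open Cfsg Matrix Module Cfsg.Agent.Orth Cfsg.Agent.AutPOmega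
open QuadraticMap (polar)

variable {F : Type*} [Field F] [Fintype F]

theorem bv_mem_perp (i : IJ) (h0 : i ≠ .inl 0) (h1 : i ≠ .inr 0) :
    bv i ∈ perp (Q4 F) (bv (.inl 0)) (bv (.inr 0)) :=
  mem_perp.2 ⟨by rw [polar_bv]; simp [Ne.symm h1], by rw [polar_bv]; simp [Ne.symm h0]⟩

theorem frame0 : Frame (Q4 F) (bv (.inl 0)) (bv (.inr 0)) (bv (.inl 1)) (bv (.inr 1)) :=
  ⟨hpair0, bv_mem_perp _ (by decide) (by decide), bv_mem_perp _ (by decide) (by decide), Q_bv _, Q_bv _,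
    by rw [polar_bv]; simp⟩

theorem rt_one (i j : IJ) : (rt i j (1 : F) : IsoGrp (Q4 F)) = eich (Q4 F) (bv i) (bv j) := by
  rw [rt, one_smul]

theorem triality_frame :
    triality F (E (Q4 F) (bv (.inl 0)) (bv (.inl 1))) = E (Q4 F) (bv (.inr 2)) (bv (.inr 3)) ∧
    triality F (E (Q4 F) (bv (.inl 0)) (bv (.inr 1))) =
      E (Q4 F) (bv (.inr 0)) ((-1 : F) • bv (.inr 1)) := by
  constructor
  · have h := triality_om (mem_TriK_rt (tri_gen_01 (1 : F)))
    rwa [rt_one, rt_one] at h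
  · have h := triality_om (mem_TriK_rt (tri_gen_05 (1 : F)))
    rwa [rt_one] at h

/-- Four vectors as one. -/
def quad (a b c d : IJ → F) : (Fin 4 → F) →ₗ[F] (IJ → F) := Fintype.linearCombination F ![a, b, c, d]

theorem quad_apply (a b c d : IJ → F) (k : Fin 4 → F) :
    quad a b c d k = k 0 • a + k 1 • b + (k 2 • c + k 3 • d) := by
  rw [quad, Fintype.linearCombination_apply, Fin.sum_univ_four]
  simp [add_assoc]

theorem quad_facts {a b c d : IJ → F} (h1 : SPair (Q4 F) a b) (h2 : SPair (Q4 F) c d)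
    (hm : ¬ Meet (ln a b) (ln c d)) (hp : Perp (Q4 F) (ln a b) (ln c d)) :
    Function.Injective (quad a b c d) ∧ ∀ k, Q4 F (quad a b c d k) = 0 := by
  refine ⟨?_, fun k => ?_⟩
  · rw [← LinearMap.ker_eq_bot, LinearMap.ker_eq_bot']
    intro k hk
    rw [quad_apply] at hk
    by_cases h0 : k 0 • a + k 1 • b = 0
    · rw [h0, zero_add] at hk
      obtain ⟨e0, e1⟩ := h1.coeff h0
      obtain ⟨e2, e3⟩ := h2.coeff hk
      funext i; fin_cases i <;> assumption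
    · refine absurd ⟨_, h0, mem_ln.2 ⟨_, _, rfl⟩, ?_⟩ hm
      rw [eq_neg_of_add_eq_zero_left hk]
      exact Submodule.neg_mem _ (mem_ln.2 ⟨_, _, rfl⟩)
  · have m1 : k 0 • a + k 1 • b ∈ ln a b := mem_ln.2 ⟨_, _, rfl⟩
    have m2 : k 2 • c + k 3 • d ∈ ln c d := mem_ln.2 ⟨_, _, rfl⟩
    rw [quad_apply, Q_add, (h1.ts m1 m1).1, (h2.ts m2 m2).1, hp _ m1 _ m2]
    ring

theorem exists_quad_iso {a b c d a' b' c' d' : IJ → F}
    (h : Function.Injective (quad a b c d) ∧ ∀ k, Q4 F (quad a b c d k) = 0)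
    (h' : Function.Injective (quad a' b' c' d') ∧ ∀ k, Q4 F (quad a' b' c' d' k) = 0) :
    ∃ g : IsoGrp (Q4 F), ap g a = a' ∧ ap g b = b' ∧ ap g c = c' ∧ ap g d = d' := by
  let e1 := LinearEquiv.ofInjective _ h.1
  let e2 := LinearEquiv.ofInjective _ h'.1
  have hz : ∀ {q : (Fin 4 → F) →ₗ[F] (IJ → F)}, (∀ k, Q4 F (q k) = 0) →
      ∀ x : LinearMap.range q, Q4 F (x : IJ → F) = 0 := by
    rintro q hq ⟨_, k, rfl⟩; exact hq k
  obtain ⟨g, hg, -⟩ := OrthAct.exists_iso_map base4.nd (e1.symm.trans e2)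
    (fun x => by rw [hz h.2 x, hz h'.2])
  have key : ∀ k, ap g (quad a b c d k) = quad a' b' c' d' k := fun k => by
    have := hg (e1 k)
    rw [LinearEquiv.trans_apply, LinearEquiv.symm_apply_apply] at this
    exact this
  refine ⟨g, ?_, ?_, ?_, ?_⟩
  · simpa [quad_apply] using key ![1, 0, 0, 0]
  · simpa [quad_apply] using key ![0, 1, 0, 0]
  · simpa [quad_apply] using key ![0, 0, 1, 0]
  · simpa [quad_apply] using key ![0, 0, 0, 1]

theorem conj_E (g : IsoGrp (Q4 F)) (u w : IJ → F) :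
    OrthOuter.conjAut (Q4 F) (OrthOuter.toSim _ g) (E (Q4 F) u w) = E (Q4 F) (ap g u) (ap g w) := by
  rw [E, conjAut_om _ (base4.eich_mem _ _), E, ← conj_eich]
  exact congrArg om (Subtype.ext rfl)

theorem bv_spair {i j : IJ} (h : j ≠ i.swap) (hne : j ≠ i) {t : F} (ht : t ≠ 0) :
    SPair (Q4 F) (bv i) (t • bv j) :=
  ⟨Q_bv i, by rw [Q_smul (Q4 F) t, Q_bv, mul_zero], polar_bv_bv h t,
    by simp, fun hm => by
      obtain ⟨c, hc⟩ := Submodule.mem_span_singleton.1 hm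
      have := congrFun hc j
      simp [Ne.symm hne, hne] at this
      exact ht this.symm⟩

theorem exists_semi_of_pt (α : MulAut (POmega F ⇑(Q4 F))) {e : IJ → F} (he : Q4 F e = 0) (he0 : e ≠ 0)
    (h : Pt (Q4 F) α e) :
    ∃ (g : GL IJ F) (σ : F ≃+* F) (hs : IsSemisimilarityPair ⇑(Q4 F) g σ), α = semiAut (Q4 F) hs :=
  exists_semi_eq_of base4 (fun γ e he he0 hpt => pt_all base4 γ he he0 hpt) α
    (pt_all base4 α he he0 h)

theorem aut_cases (α : MulAut (POmega F ⇑(Q4 F))) :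
    (∃ (g : GL IJ F) (σ : F ≃+* F) (hs : IsSemisimilarityPair ⇑(Q4 F) g σ), α = semiAut (Q4 F) hs) ∨
    ∃ (x : OrthOuter.Sim (Q4 F)) (g : GL IJ F) (σ : F ≃+* F) (hs : IsSemisimilarityPair ⇑(Q4 F) g σ),
      α = OrthOuter.conjAut (Q4 F) x * triality F * semiAut (Q4 F) hs := by
  rcases pt_or_disjoint base4 α (frame0 (F := F)) with h | ⟨u1, w1, u2, w2, hs1, hs2, e1, e2, hm, hp⟩
  · exact .inl (exists_semi_of_pt α (Q_bv _) frame0.sa.nu h)
  refine .inr ?_
  have hB : SPair (Q4 F) (bv (.inr 0)) ((-1 : F) • bv (.inr 1)) :=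
    bv_spair (by decide) (by decide) (by simp)
  have hA : SPair (Q4 F) (bv (.inr 2)) (bv (.inr 3)) := by
    simpa using bv_spair (F := F) (i := .inr 2) (j := .inr 3) (by decide) (by decide) one_ne_zero
  have hm0 : ¬ Meet (ln (bv (.inr 2)) (bv (.inr 3))) (ln (bv (.inr 0)) ((-1 : F) • bv (.inr 1)) : Submodule F (IJ → F)) := by
    rintro ⟨p, hp0, hp1, hp2⟩
    obtain ⟨s, t, rfl⟩ := mem_ln.1 hp1
    obtain ⟨s', t', h'⟩ := mem_ln.1 hp2
    have k2 := congrFun h' (.inr 2)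
    have k3 := congrFun h' (.inr 3)
    simp at k2 k3
    exact hp0 (by simp [← k2, ← k3])
  have hp0 : Perp (Q4 F) (ln (bv (.inr 2)) (bv (.inr 3))) (ln (bv (.inr 0)) ((-1 : F) • bv (.inr 1))) :=
    perp_ln_iff.2 ⟨⟨by rw [polar_bv]; simp, by rw [polar_bv]; simp⟩, by rw [polar_bv]; simp,
      by rw [polar_bv]; simp⟩
  obtain ⟨o, o1, o2, o3, o4⟩ := exists_quad_iso (quad_facts hA hB hm0 hp0) (quad_facts hs1 hs2 hm hp)
  set x := OrthOuter.toSim (Q4 F) o
  set γ := (OrthOuter.conjAut (Q4 F) x * triality F)⁻¹ * α with hγ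
  have g1 : γ (E (Q4 F) (bv (.inl 0)) (bv (.inl 1))) = E (Q4 F) (bv (.inl 0)) (bv (.inl 1)) := by
    rw [hγ, MulAut.mul_apply, e1]
    apply (OrthOuter.conjAut (Q4 F) x * triality F).injective
    rw [MulAut.apply_inv_self, MulAut.mul_apply, triality_frame.1, conj_E, o1, o2]
  have g2 : γ (E (Q4 F) (bv (.inl 0)) (bv (.inr 1))) = E (Q4 F) (bv (.inl 0)) (bv (.inr 1)) := by
    rw [hγ, MulAut.mul_apply, e2]
    apply (OrthOuter.conjAut (Q4 F) x * triality F).injective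
    rw [MulAut.apply_inv_self, MulAut.mul_apply, triality_frame.2, conj_E, o3, o4]
  have hpt := pt_of_meet base4 γ frame0 frame0.sa frame0.sb g1 g2
    ⟨_, frame0.sa.nu, left_mem_ln _ _, left_mem_ln _ _⟩
  obtain ⟨g, σ, hs, hh⟩ := exists_semi_of_pt γ (Q_bv _) frame0.sa.nu hpt
  exact ⟨x, g, σ, hs, by rw [← hh, hγ, mul_inv_cancel_left]⟩

theorem triality_ne_semi {g : GL IJ F} {σ : F ≃+* F} (hs : IsSemisimilarityPair ⇑(Q4 F) g σ) :
    triality F ≠ semiAut (Q4 F) hs := by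
  intro e
  obtain ⟨c, hQ'⟩ := id hs
  have hQ : ∀ v, Q4 F ((g : Matrix IJ IJ F) *ᵥ (σ ∘ v)) = (c : F) * σ (Q4 F v) := hQ'
  have hmv : ∀ {v : IJ → F}, v ≠ 0 → (g : Matrix IJ IJ F) *ᵥ (σ ∘ v) ≠ 0 := fun {v} hv0 h0 => hv0 (funext fun i => by
    have h4 := Matrix.mulVec_injective_of_isUnit g.isUnit (h0.trans (Matrix.mulVec_zero _).symm)
    simpa using congrFun h4 i)
  set S : (IJ → F) → (IJ → F) := fun v => (g : Matrix IJ IJ F) *ᵥ (σ ∘ v) with hS
  have hE : ∀ {w : IJ → F}, SPair (Q4 F) (bv (.inl 0)) w →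
      triality F (E (Q4 F) (bv (.inl 0)) w) = E (Q4 F) (S (bv (.inl 0))) ((c : F)⁻¹ • S w) := fun {w} hw => by
    rw [e]
    exact semi_E base4 c.ne_zero hQ hw.qu hw.p
  have hu : Q4 F (S (bv (.inl 0))) = 0 := by
    show Q4 F ((g : Matrix IJ IJ F) *ᵥ _) = 0
    rw [hQ, Q_bv, map_zero, mul_zero]
  have hu0 : S (bv (.inl 0)) ≠ 0 := hmv frame0.sa.nu
  have key : ∀ {w a b : IJ → F}, SPair (Q4 F) (bv (.inl 0)) w → SPair (Q4 F) a b →
      triality F (E (Q4 F) (bv (.inl 0)) w) = E (Q4 F) a b → S (bv (.inl 0)) ∈ ln a b := by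
    intro w a b hw hab he
    refine (star_iff base4 hu hu0 hab).1 ⟨⟨a, b, hab, rfl⟩, (c : F)⁻¹ • S w, ?_, he ▸ hE hw⟩
    rw [pl_smul_right, semi_polar hQ, hw.p, map_zero, mul_zero, mul_zero]
  have hA : SPair (Q4 F) (bv (.inr 2)) (bv (.inr 3)) := by
    simpa using bv_spair (F := F) (i := .inr 2) (j := .inr 3) (by decide) (by decide) one_ne_zero
  have hB : SPair (Q4 F) (bv (.inr 0)) ((-1 : F) • bv (.inr 1)) :=
    bv_spair (by decide) (by decide) (by simp)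
  obtain ⟨s, t, hst⟩ := mem_ln.1 (key frame0.sa hA triality_frame.1)
  obtain ⟨s', t', hst'⟩ := mem_ln.1 (key frame0.sb hB triality_frame.2)
  have k2 := congrFun (hst.trans hst'.symm) (.inr 2)
  have k3 := congrFun (hst.trans hst'.symm) (.inr 3)
  simp at k2 k3
  exact hu0 (by rw [← hst]; simp [k2, k3])

/-- The field part of a semisimilarity is determined by its action. -/
theorem semi_field {g : GL IJ F} {σ : F ≃+* F} (hs : IsSemisimilarityPair ⇑(Q4 F) g σ)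
    {x : OrthOuter.Sim (Q4 F)} (e : semiAut (Q4 F) hs = OrthOuter.conjAut (Q4 F) x) : σ = 1 := by
  obtain ⟨h1, e1⟩ := conjAut_eq_semiAut x⁻¹
  have h : semiAut (Q4 F) (OrthOuter.semisim_mul h1 hs) = 1 := by
    rw [← semiAut_mul h1 hs, ← e1, e, ← map_mul, inv_mul_cancel, map_one]
  simpa using (semi_eq_one base4 _ h).1

end Cfsg.Agent.Triality
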