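import Mathlib
import Cfsg.Agent.EqLemmas

/-!
# Split octonions in hyperbolic coordinates

Coordinates `(a, v, -w, b)` of Zorn's vector matrices, so that the norm is `Σ xᵢ yᵢ`.
* `tri x y z` : the trace of `(x y) z`; cyclically invariant
* `omul`, `oB`, `oOne`, `oConj` : product, trace form, unit, conjugation
* `scalar_of_omul` : a right multiplication associating with everything is scalar
-/

set_option autoImplicit false
set_option linter.unusedSectionVars false

namespace Cfsg.Agent.Triality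

/-- The index type of the coordinates. -/
abbrev IJ := Fin 4 ⊕ Fin 4

variable {F : Type*} [CommRing F]

/-- The trilinear form. -/
def tri (x y z : IJ → F) : F :=
  x (.inl 0) * y (.inl 0) * z (.inl 0) - x (.inl 0) * y (.inl 1) * z (.inr 1) - x (.inl 0) * y (.inl 2) * z (.inr 2)
    - x (.inl 0) * y (.inl 3) * z (.inr 3) + x (.inl 1) * y (.inl 2) * z (.inl 3) - x (.inl 1) * y (.inl 3) * z (.inl 2)
    - x (.inl 1) * y (.inr 0) * z (.inr 1) - x (.inl 1) * y (.inr 1) * z (.inl 0) - x (.inl 2) * y (.inl 1) * z (.inl 3)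
    + x (.inl 2) * y (.inl 3) * z (.inl 1) - x (.inl 2) * y (.inr 0) * z (.inr 2) - x (.inl 2) * y (.inr 2) * z (.inl 0)
    + x (.inl 3) * y (.inl 1) * z (.inl 2) - x (.inl 3) * y (.inl 2) * z (.inl 1) - x (.inl 3) * y (.inr 0) * z (.inr 3)
    - x (.inl 3) * y (.inr 3) * z (.inl 0) + x (.inr 0) * y (.inr 0) * z (.inr 0) - x (.inr 0) * y (.inr 1) * z (.inl 1)
    - x (.inr 0) * y (.inr 2) * z (.inl 2) - x (.inr 0) * y (.inr 3) * z (.inl 3) - x (.inr 1) * y (.inl 0) * z (.inl 1)
    - x (.inr 1) * y (.inl 1) * z (.inr 0) + x (.inr 1) * y (.inr 2) * z (.inr 3) - x (.inr 1) * y (.inr 3) * z (.inr 2)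
    - x (.inr 2) * y (.inl 0) * z (.inl 2) - x (.inr 2) * y (.inl 2) * z (.inr 0) - x (.inr 2) * y (.inr 1) * z (.inr 3)
    + x (.inr 2) * y (.inr 3) * z (.inr 1) - x (.inr 3) * y (.inl 0) * z (.inl 3) - x (.inr 3) * y (.inl 3) * z (.inr 0)
    + x (.inr 3) * y (.inr 1) * z (.inr 2) - x (.inr 3) * y (.inr 2) * z (.inr 1)

/-- The trace form. -/
def oB (v z : IJ → F) : F :=
  v (.inl 0) * z (.inl 0) - v (.inl 1) * z (.inr 1) - v (.inl 2) * z (.inr 2) - v (.inl 3) * z (.inr 3)
    + v (.inr 0) * z (.inr 0) - v (.inr 1) * z (.inl 1) - v (.inr 2) * z (.inl 2) - v (.inr 3) * z (.inl 3)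

/-- The product. -/
def omul (x y : IJ → F) : IJ → F :=
  Sum.elim
    ![x (.inl 0) * y (.inl 0) - x (.inl 1) * y (.inr 1) - x (.inl 2) * y (.inr 2) - x (.inl 3) * y (.inr 3),
      x (.inl 0) * y (.inl 1) + x (.inl 1) * y (.inr 0) - x (.inr 2) * y (.inr 3) + x (.inr 3) * y (.inr 2),
      x (.inl 0) * y (.inl 2) + x (.inl 2) * y (.inr 0) + x (.inr 1) * y (.inr 3) - x (.inr 3) * y (.inr 1),
      x (.inl 0) * y (.inl 3) + x (.inl 3) * y (.inr 0) - x (.inr 1) * y (.inr 2) + x (.inr 2) * y (.inr 1)]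
    ![x (.inr 0) * y (.inr 0) - x (.inr 1) * y (.inl 1) - x (.inr 2) * y (.inl 2) - x (.inr 3) * y (.inl 3),
      -x (.inl 2) * y (.inl 3) + x (.inl 3) * y (.inl 2) + x (.inr 0) * y (.inr 1) + x (.inr 1) * y (.inl 0),
      x (.inl 1) * y (.inl 3) - x (.inl 3) * y (.inl 1) + x (.inr 0) * y (.inr 2) + x (.inr 2) * y (.inl 0),
      -x (.inl 1) * y (.inl 2) + x (.inl 2) * y (.inl 1) + x (.inr 0) * y (.inr 3) + x (.inr 3) * y (.inl 0)]

/-- The unit. -/
def oOne : IJ → F := Sum.elim ![1, 0, 0, 0] ![1, 0, 0, 0]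

/-- The conjugation. -/
def oConj (x : IJ → F) : IJ → F :=
  Sum.elim ![x (.inr 0), -x (.inl 1), -x (.inl 2), -x (.inl 3)]
    ![x (.inl 0), -x (.inr 1), -x (.inr 2), -x (.inr 3)]

theorem tri_cyclic (x y z : IJ → F) : tri y z x = tri x y z := by
  simp only [tri]; ring

theorem tri_conj (x y z : IJ → F) : tri (oConj y) (oConj x) (oConj z) = tri x y z := by
  simp [tri, oConj]; ring

theorem tri_eq_oB (x y z : IJ → F) : tri x y z = oB (omul x y) z := by
  simp [tri, oB, omul]; ring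

theorem one_omul (y : IJ → F) : omul oOne y = y := by
  funext i
  rcases i with i | i <;> fin_cases i <;> simp [omul, oOne]

theorem omul_one (x : IJ → F) : omul x oOne = x := by
  funext i
  rcases i with i | i <;> fin_cases i <;> simp [omul, oOne]

theorem eq_of_oB {u v : IJ → F} (h : ∀ z, oB u z = oB v z) : u = v := by
  funext i
  rcases i with i | i <;> fin_cases i
  · simpa [oB, Pi.single_apply] using h (Pi.single (.inl 0) 1)
  · simpa [oB, Pi.single_apply] using h (Pi.single (.inr 1) 1)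
  · simpa [oB, Pi.single_apply] using h (Pi.single (.inr 2) 1)
  · simpa [oB, Pi.single_apply] using h (Pi.single (.inr 3) 1)
  · simpa [oB, Pi.single_apply] using h (Pi.single (.inr 0) 1)
  · simpa [oB, Pi.single_apply] using h (Pi.single (.inl 1) 1)
  · simpa [oB, Pi.single_apply] using h (Pi.single (.inl 2) 1)
  · simpa [oB, Pi.single_apply] using h (Pi.single (.inl 3) 1)

/-- A right multiplication associating with all products is a scalar. -/
theorem scalar_of_omul {d : IJ → F} (h : ∀ x y, omul (omul x y) d = omul x (omul y d)) :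
    d = d (.inl 0) • oOne := by
  have h3 : d (.inl 3) = 0 := by
    simpa [omul, Pi.single_apply, eq_comm] using congrFun (h (Pi.single (.inl 0) 1) (Pi.single (.inl 1) 1)) (.inr 2)
  have h2 : d (.inl 2) = 0 := by
    simpa [omul, Pi.single_apply, eq_comm] using congrFun (h (Pi.single (.inl 0) 1) (Pi.single (.inl 1) 1)) (.inr 3)
  have h1 : d (.inl 1) = 0 := by
    simpa [omul, Pi.single_apply, eq_comm] using congrFun (h (Pi.single (.inl 0) 1) (Pi.single (.inl 2) 1)) (.inr 3)
  have h7 : d (.inr 3) = 0 := by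
    simpa [omul, Pi.single_apply, eq_comm] using congrFun (h (Pi.single (.inl 0) 1) (Pi.single (.inr 1) 1)) (.inl 2)
  have h6 : d (.inr 2) = 0 := by
    simpa [omul, Pi.single_apply, eq_comm] using congrFun (h (Pi.single (.inl 0) 1) (Pi.single (.inr 1) 1)) (.inl 3)
  have h5 : d (.inr 1) = 0 := by
    simpa [omul, Pi.single_apply, eq_comm] using congrFun (h (Pi.single (.inl 0) 1) (Pi.single (.inr 2) 1)) (.inl 3)
  have h4 : d (.inr 0) = d (.inl 0) := by
    simpa [omul, Pi.single_apply, eq_comm] using congrFun (h (Pi.single (.inl 1) 1) (Pi.single (.inl 2) 1)) (.inr 3)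
  funext i
  rcases i with i | i <;> fin_cases i <;> simp [oOne, h1, h2, h3, h4, h5, h6, h7]

theorem map_tri {R : Type*} [CommRing R] (σ : F →+* R) (x y z : IJ → F) :
    σ (tri x y z) = tri (σ ∘ x) (σ ∘ y) (σ ∘ z) := by
  simp [tri]

end Cfsg.Agent.Triality
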